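/-
Odd order automorphism groups of `p`-groups of rank at most two, `p` odd (Bender-Glauberman 4.17).

* `card_le_cube` : a rank two group of exponent `p` has order at most `p ^ 3`
* `exists_action` : reduction to an action on an elementary abelian group of order at most `p ^ 2`
* `commutator_isPGroup`, `prime_dvd`
-/
import Cfsg.Agent.Lib.PGroup.Critical
import Cfsg.Agent.Lib.PGroup.NormalAbelian
import Cfsg.Agent.Lib.PGroup.Basic
import Cfsg.Agent.Lib.Coprime.Frattini
import Cfsg.Agent.Lib.GL2Odd.Derived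
import Cfsg.Agent.Lib.GLOrder.Basic

set_option autoImplicit false

namespace Cfsg.Agent.RankTwo

open scoped commutatorElement

variable {p : ℕ} [hp : Fact p.Prime]

/-- A group of exponent `p` and rank at most two has order at most `p ^ 3` and a Frattini quotient of
order at most `p ^ 2`. -/
theorem card_le_cube {T : Type*} [Group T] [Finite T] (hexp : ∀ x : T, x ^ p = 1)
    (hr : Cfsg.PRankLE p 2 T) : Nat.card T ≤ p ^ 3 ∧ (frattini T).index ≤ p ^ 2 := by
  have hT : IsPGroup p T := fun x => ⟨1, by rw [pow_one]; exact hexp x⟩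
  obtain ⟨A, -, hmax⟩ := Finite.exists_le_maximal (α := Subgroup T)
    (p := fun A => A.Normal ∧ ∀ a ∈ A, ∀ b ∈ A, a * b = b * a) (a := ⊥)
    ⟨inferInstance, fun a ha b hb => by
      rw [Subgroup.mem_bot] at ha hb
      rw [ha, hb]⟩
  have hAn : A.Normal := hmax.prop.1
  have hC := PGroup.centralizer_eq_of_maximal_normal_abelian hT hmax.prop.2
    fun B h1 h2 h3 => le_antisymm (hmax.2 ⟨h1, h2⟩ h3) h3
  have hAc : Nat.card A ≤ p ^ 2 := hr A ⟨⟨fun a b => Subtype.ext (hmax.prop.2 _ a.2 _ b.2)⟩⟩
    fun a _ => hexp a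
  obtain ⟨a, ha⟩ := IsPGroup.iff_card.1 (hT.to_subgroup A)
  have ha2 : a ≤ 2 := (Nat.pow_le_pow_iff_right hp.out.one_lt).1 (ha ▸ hAc)
  have h := PGroup.index_centralizer_le hT a A hAn ha
  rw [hC] at h
  have hi : A.index ≤ p := by
    refine h.trans ((Nat.pow_le_pow_right hp.out.pos ?_).trans (pow_one p).le)
    interval_cases a <;> norm_num
  have h3 : Nat.card T ≤ p ^ 3 := by
    rw [← Subgroup.card_mul_index A, pow_succ]
    exact Nat.mul_le_mul hAc hi
  refine ⟨h3, ?_⟩
  by_contra hlt
  have hΦ : frattini T = ⊥ := by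
    rw [← Subgroup.card_eq_one]
    obtain ⟨k, hk⟩ := IsPGroup.iff_card.1 (hT.to_subgroup (frattini T))
    obtain ⟨j, hj⟩ := hT.index (frattini T)
    rw [hj, not_le, Nat.pow_lt_pow_iff_right hp.out.one_lt] at hlt
    rw [← Subgroup.card_mul_index (frattini T), hk, hj, ← pow_add,
      Nat.pow_le_pow_iff_right hp.out.one_lt] at h3
    rw [hk, show k = 0 by omega, pow_zero]
  have hcomm : ∀ a b : T, a * b = b * a := fun a b => by
    have h2 : ⁅a, b⁆ ∈ frattini T := PGroup.commutatorElement_mem_frattini hT a b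
    rw [hΦ, Subgroup.mem_bot] at h2
    exact commutatorElement_eq_one_iff_mul_comm.1 h2
  have hle := hr ⊤ ⟨⟨fun a b => Subtype.ext (hcomm _ _)⟩⟩ fun a _ => hexp a
  rw [Subgroup.card_top] at hle
  exact hlt ((Nat.le_of_dvd Nat.card_pos (Subgroup.index_dvd_card _)).trans hle)

variable {R : Type*} [Group R] [Finite R]

/-- The automorphisms of `R` restricted to a characteristic subgroup. -/
def restrictAut (T : Subgroup R) [hT : T.Characteristic] : MulAut R →* MulAut T where
  toFun a :=
    { toFun := fun x => ⟨a x, (PGroup.aut_mem_iff a (x : R)).2 x.2⟩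
      invFun := fun x => ⟨a.symm x, (PGroup.aut_mem_iff a.symm (x : R)).2 x.2⟩
      left_inv := fun x => Subtype.ext (a.symm_apply_apply x)
      right_inv := fun x => Subtype.ext (a.apply_symm_apply x)
      map_mul' := fun x y => Subtype.ext (map_mul a (x : R) y) }
  map_one' := rfl
  map_mul' _ _ := rfl

/-- The automorphisms of `T` induced on a quotient by a characteristic subgroup. -/
def quotientAut {T : Type*} [Group T] (N : Subgroup T) [hN : N.Characteristic] :
    MulAut T →* MulAut (T ⧸ N) where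
  toFun a := QuotientGroup.congr N N a (Subgroup.characteristic_iff_map_eq.1 hN a)
  map_one' := MulEquiv.ext fun x => QuotientGroup.induction_on x fun _ => rfl
  map_mul' _ _ := MulEquiv.ext fun x => QuotientGroup.induction_on x fun _ => rfl

/-- An automorphism of prime order `q ≠ p` of a `p`-group trivial on the Frattini quotient is `1`. -/
theorem aut_eq_one_of_frattini {T : Type*} [Group T] [Finite T] (hT : IsPGroup p T) {a : MulAut T}
    {q : ℕ} [hq : Fact q.Prime] (hqp : q ≠ p) (ha : a ^ q = 1)
    (h : ∀ x, x⁻¹ * a x ∈ frattini T) : a = 1 := by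
  classical
  have hA : IsPGroup q (Subgroup.zpowers a) := by
    refine IsPGroup.of_card (n := if a = 1 then 0 else 1) ?_
    rw [Nat.card_zpowers]
    split_ifs with h1
    · rw [h1, orderOf_one, pow_zero]
    · rw [orderOf_eq_prime ha h1, pow_one]
  have key : ∀ g : T, ∃ x, a x = x ∧ g⁻¹ * x ∈ frattini T := by
    intro g
    let S := {x : T // g⁻¹ * x ∈ frattini T}
    have hmem : ∀ b ∈ Subgroup.zpowers a, ∀ x : T, x⁻¹ * b x ∈ frattini T := by
      intro b hb
      let K : Subgroup (MulAut T) :=
        ((quotientAut (frattini T) (hN := inferInstance)).ker)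
      have haK : a ∈ K := MonoidHom.mem_ker.2 (MulEquiv.ext fun y =>
        QuotientGroup.induction_on y fun x => (QuotientGroup.eq.2 (h x)).symm)
      intro x
      have hbK : b ∈ K := Subgroup.zpowers_le.2 haK hb
      have := congrArg (fun c : MulAut (T ⧸ frattini T) => c (x : T ⧸ frattini T))
        (MonoidHom.mem_ker.1 hbK)
      exact QuotientGroup.eq.1 this.symm
    let inst : MulAction (Subgroup.zpowers a) S :=
      { smul := fun b x => ⟨(b : MulAut T) x.1, by
          have := mul_mem x.2 (hmem b b.2 x.1)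
          simpa [mul_assoc] using this⟩
        one_smul := fun _ => Subtype.ext rfl
        mul_smul := fun _ _ _ => Subtype.ext rfl }
    have hcard : ¬ q ∣ Nat.card S := by
      have e : Nat.card S = Nat.card (frattini T) := Nat.card_congr
        { toFun := fun x => ⟨g⁻¹ * x.1, x.2⟩
          invFun := fun y => ⟨g * y.1, by simp⟩
          left_inv := fun x => Subtype.ext (by simp)
          right_inv := fun y => Subtype.ext (by simp) }
      obtain ⟨k, hk⟩ := IsPGroup.iff_card.1 (hT.to_subgroup (frattini T))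
      rw [e, hk]
      exact fun hd => hqp ((Nat.prime_dvd_prime_iff_eq hq.out hp.out).1 (hq.out.dvd_of_dvd_pow hd))
    obtain ⟨x, hx⟩ := hA.nonempty_fixed_point_of_prime_not_dvd_card S hcard
    exact ⟨x.1, congrArg Subtype.val (hx ⟨a, Subgroup.mem_zpowers a⟩), x.2⟩
  have htop := Coprime.eq_top_of_meets_frattini_cosets
    (H := a.toMonoidHom.eqLocus (MonoidHom.id T)) key
  exact MulEquiv.ext fun x => (htop ▸ Subgroup.mem_top x : x ∈ a.toMonoidHom.eqLocus (MonoidHom.id T))

/-- A characteristic subgroup `U` of exponent `p` and class at most two on which the automorphisms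
of order prime to `p` act faithfully. -/
theorem exists_faithful (hp2 : p ≠ 2) (hR : IsPGroup p R) :
    ∃ U : Subgroup R, U.Characteristic ∧ (∀ u ∈ U, u ^ p = 1) ∧
      (∀ u ∈ U, ∀ g : R, ⁅u, g⁆ ∈ U ⊓ Subgroup.centralizer (U : Set R)) ∧
      ∀ b : MulAut R, Nat.Coprime (orderOf b) p → (∀ u ∈ U, b u = u) → b = 1 := by
  obtain ⟨H, hH⟩ := PGroup.exists_critical hR
  haveI := hH.char
  set T := Subgroup.closure {x : R | x ∈ H ∧ x ^ p = 1} with hTdef
  have hTH : T ≤ H := (Subgroup.closure_le _).2 fun x hx => hx.1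
  have hTexp : ∀ x ∈ T, x ^ p = 1 := by
    intro x hx
    induction hx using Subgroup.closure_induction with
    | mem x hx => exact hx.2
    | one => exact one_pow _
    | mul x y hx hy ihx ihy =>
      have hc := hH.comm_mem y (hTH hy) x
      have h1 : Commute x ⁅y, x⁆ := Subgroup.mem_centralizer_iff.1 hc.2 x (hTH hx)
      have h2 : Commute y ⁅y, x⁆ := Subgroup.mem_centralizer_iff.1 hc.2 y (hTH hy)
      rw [PGroup.mul_pow_prime_eq hp.out hp2 h1 h2, ihx, ihy, one_mul]
      rw [← PGroup.commutator_pow_left h2, ihy, commutatorElement_one_left]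
    | inv x _ ih => rw [inv_pow, ih, inv_one]
  haveI hTchar : T.Characteristic := PGroup.characteristic_of_forall_mem fun φ x hx => by
    induction hx using Subgroup.closure_induction with
    | mem x hx =>
      exact Subgroup.subset_closure ⟨(PGroup.aut_mem_iff φ x).2 hx.1, by rw [← map_pow, hx.2, map_one]⟩
    | one => rw [map_one]; exact one_mem _
    | mul x y _ _ hx hy => rw [map_mul]; exact mul_mem hx hy
    | inv x _ hx => rw [map_inv]; exact inv_mem hx
  refine ⟨T, hTchar, hTexp, fun u hu g => ?_, fun b hcop hb => ?_⟩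
  · have hc := hH.comm_mem u (hTH hu) g
    refine ⟨Subgroup.subset_closure ⟨hc.1, ?_⟩, Subgroup.centralizer_le hTH hc.2⟩
    rw [← PGroup.commutator_pow_left (Subgroup.mem_centralizer_iff.1 hc.2 u (hTH hu)), hTexp u hu,
      commutatorElement_one_left]
  have hfix : ∀ x ∈ H, x ^ p = 1 → b x = x := fun x hx hxp =>
    hb x (Subgroup.subset_closure ⟨hx, hxp⟩)
  refine PGroup.aut_eq_one_of_fix_selfCentralizing hR hH.self_centralizing hcop ?_
  have key : ∀ k : ℕ, ∀ x ∈ H, x ^ p ^ k = 1 → b x = x := by
    intro k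
    induction k with
    | zero => intro x _ hx; rw [pow_zero, pow_one] at hx; rw [hx, map_one]
    | succ k ih =>
      intro x hxH hx
      refine PGroup.fixed_of_displacement_fixed hR hcop
        (hfix _ (mul_mem (inv_mem hxH) ((PGroup.aut_mem_iff b x).2 hxH)) ?_)
      have h1 : b (x ^ p) = x ^ p := ih _ (pow_mem hxH p) (by rw [← pow_mul, ← pow_succ']; exact hx)
      have hc : ⁅b x, x⁻¹⁆ ∈ H ⊓ Subgroup.centralizer (H : Set R) :=
        hH.comm_mem _ ((PGroup.aut_mem_iff b x).mpr hxH) _
      have hc1 : Commute x⁻¹ ⁅b x, x⁻¹⁆ := Subgroup.mem_centralizer_iff.mp hc.2 _ (inv_mem hxH)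
      have hc2 : Commute (b x) ⁅b x, x⁻¹⁆ :=
        Subgroup.mem_centralizer_iff.mp hc.2 _ ((PGroup.aut_mem_iff b x).mpr hxH)
      rw [PGroup.mul_pow_prime_eq hp.out hp2 hc1 hc2, inv_pow, ← map_pow, h1, inv_mul_cancel]
      rw [← PGroup.commutator_pow_left hc2, ← map_pow, h1, commutatorElement_eq_one_iff_commute]
      exact (Commute.refl x).inv_right.pow_left p
  intro x hx
  obtain ⟨k, hk⟩ := hR x
  exact key k x hx hk

/-- A subgroup all of whose elements of order prime to `p` are trivial is a `p`-group. -/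
theorem isPGroup_of_forall_coprime {M : Type*} [Group M] [Finite M] (K : Subgroup M)
    (h : ∀ k ∈ K, Nat.Coprime (orderOf k) p → k = 1) : IsPGroup p K := by
  refine IsPGroup.of_card (n := (Nat.card K).factorization p) ?_
  refine Nat.eq_pow_of_factorization_eq_single Nat.card_pos.ne' ?_
  ext q
  by_cases hqp : q = p
  · subst hqp; simp
  rw [Finsupp.single_eq_of_ne hqp]
  by_contra hne
  have hq : q.Prime := Nat.prime_of_mem_primeFactors
    (Nat.support_factorization _ ▸ Finsupp.mem_support_iff.2 hne)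
  haveI : Fact q.Prime := ⟨hq⟩
  obtain ⟨a, ha⟩ := exists_prime_orderOf_dvd_card' (G := K) q
    (Nat.dvd_of_factorization_pos hne)
  have h1 := h a a.2 (by
    rw [Subgroup.orderOf_coe, ha]
    exact (Nat.coprime_primes hq hp.out).2 hqp)
  rw [← Subgroup.orderOf_coe, h1, orderOf_one] at ha
  exact hq.ne_one ha.symm

/-- For `p` odd and rank at most two, `Aut(R)` acts with `p`-group kernel on an elementary abelian
group of order at most `p ^ 2`. -/
theorem exists_action (hp2 : p ≠ 2) (hR : IsPGroup p R) (hr : Cfsg.PRankLE p 2 R) :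
    ∃ T : Subgroup R, ∃ ψ : MulAut R →* MulAut (T ⧸ frattini T),
      IsPGroup p T ∧ (frattini T).index ≤ p ^ 2 ∧ IsPGroup p ψ.ker := by
  obtain ⟨T, hTchar, hTexp, -, hfaith⟩ := exists_faithful hp2 hR
  haveI := hTchar
  have hTr : Cfsg.PRankLE p 2 T := fun A hA hAe => by
    have := hr (A.map T.subtype) (Subgroup.map_isMulCommutative _ _) (by
      rintro _ ⟨a, ha, rfl⟩
      exact congrArg Subtype.val (hAe a ha))
    rwa [Subgroup.card_map_of_injective T.subtype_injective] at this
  refine ⟨T, (quotientAut (frattini T) (hN := inferInstance)).comp (restrictAut T),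
    hR.to_subgroup T, (card_le_cube (fun x => Subtype.ext (hTexp _ x.2)) hTr).2,
    isPGroup_of_forall_coprime _ fun a ha hcop => ?_⟩
  by_contra hne
  obtain ⟨q, hq, hqd⟩ := Nat.exists_prime_and_dvd (fun h => hne (orderOf_eq_one_iff.1 h))
  haveI : Fact q.Prime := ⟨hq⟩
  set b := a ^ (orderOf a / q) with hb
  have hbord : orderOf b = q := by
    rw [hb, orderOf_pow' _ (Nat.div_ne_zero_iff.2 ⟨hq.ne_zero, Nat.le_of_dvd (orderOf_pos a) hqd⟩),
      Nat.gcd_eq_right (Nat.div_dvd_of_dvd hqd), Nat.div_div_self hqd (orderOf_pos a).ne']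
  have hqp : q ≠ p := fun h => hp.out.not_dvd_one (hcop ▸ Nat.dvd_gcd (h ▸ hqd) dvd_rfl)
  have hbq : b ^ q = 1 := by rw [← hbord, pow_orderOf_eq_one]
  have hbker := pow_mem ha (orderOf a / q)
  rw [← hb] at hbker
  have hres : restrictAut T b = 1 :=
    aut_eq_one_of_frattini (hR.to_subgroup T) hqp (by rw [← map_pow, hbq, map_one]) fun x => by
      have := congrArg (fun c : MulAut (T ⧸ frattini T) => c (x : T ⧸ frattini T))
        (MonoidHom.mem_ker.1 hbker)
      exact QuotientGroup.eq.1 this.symm
  have hb1 : b = 1 := hfaith b (by rw [hbord]; exact (Nat.coprime_primes hq hp.out).2 hqp)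
    fun u hu => congrArg Subtype.val (DFunLike.congr_fun hres (⟨u, hu⟩ : T))
  rw [hb1, orderOf_one] at hbord
  exact hq.ne_one hbord.symm

/-- An odd order group of automorphisms of an elementary abelian group of order at most `p ^ 2`. -/
theorem pow_eq_one_of_mem_commutator_aut (hp2 : p ≠ 2) {V : Type*} [CommGroup V] [Finite V]
    (hexp : ∀ v : V, v ^ p = 1) (hV : Nat.card V ≤ p ^ 2) {A : Type*} [Group A] [Finite A]
    (hodd : Odd (Nat.card A)) (ψ : A →* MulAut V) :
    (∀ a ∈ commutator A, ψ a ^ p = 1) ∧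
      ∀ a : A, (orderOf (ψ a)).Prime → orderOf (ψ a) ≠ p →
        orderOf (ψ a) ∣ p - 1 ∨ orderOf (ψ a) ∣ p + 1 := by
  classical
  have hVp : IsPGroup p V := fun v => ⟨1, by rw [pow_one]; exact hexp v⟩
  obtain ⟨d, hd⟩ := IsPGroup.iff_card.1 hVp
  have hd2 : d ≤ 2 := (Nat.pow_le_pow_iff_right hp.out.one_lt).1 (hd ▸ hV)
  rcases Nat.lt_or_ge d 2 with hlt | hge
  · haveI : IsCyclic V := by
      interval_cases d
      · haveI : Subsingleton V := (Nat.card_eq_one_iff_unique.1 (by simpa using hd)).1
        exact isCyclic_of_subsingleton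
      · exact isCyclic_of_prime_card (p := p) (by simpa using hd)
    obtain ⟨g, hg⟩ := IsCyclic.exists_generator (α := V)
    have hcomm : ∀ f₁ f₂ : MulAut V, f₁ * f₂ = f₂ * f₁ := by
      intro f₁ f₂
      refine MulEquiv.ext fun v => ?_
      obtain ⟨i, rfl⟩ := Subgroup.mem_zpowers_iff.1 (hg v)
      obtain ⟨j, hj⟩ := Subgroup.mem_zpowers_iff.1 (hg (f₁ g))
      obtain ⟨k, hk⟩ := Subgroup.mem_zpowers_iff.1 (hg (f₂ g))
      rw [map_zpow, map_zpow, MulAut.mul_apply, MulAut.mul_apply, ← hk, map_zpow, ← hj, map_zpow,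
        ← hk, ← zpow_mul, ← zpow_mul, ← zpow_mul, ← zpow_mul]
      congr 1
      ring
    refine ⟨fun a ha => ?_, fun a hprime _ => Or.inl ?_⟩
    · have h1 : ψ a = 1 := by
        rw [commutator_def] at ha
        have hle : ⁅(⊤ : Subgroup A), (⊤ : Subgroup A)⁆ ≤ ψ.ker := by
          rw [Subgroup.commutator_le]
          intro x _ y _
          rw [MonoidHom.mem_ker, map_commutatorElement, commutatorElement_eq_one_iff_mul_comm]
          exact hcomm _ _
        exact MonoidHom.mem_ker.1 (hle ha)
      rw [h1, one_pow]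
    · have h := orderOf_dvd_natCard (ψ a)
      rw [IsCyclic.card_mulAut, hd] at h
      interval_cases d
      · rw [pow_zero, Nat.totient_one, Nat.dvd_one] at h
        exact absurd h hprime.ne_one
      · rwa [pow_one, Nat.totient_prime hp.out] at h
  · obtain rfl : d = 2 := le_antisymm hd2 hge
    letI : Module (ZMod p) (Additive V) :=
      AddCommGroup.zmodModule (n := p) fun v => congrArg Additive.ofMul (hexp (Additive.toMul v))
    haveI : Fintype (Additive V) := Fintype.ofFinite _
    have hrk : Module.finrank (ZMod p) (Additive V) = 2 := by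
      have h := Module.card_eq_pow_finrank (K := ZMod p) (V := Additive V)
      rw [ZMod.card, ← Nat.card_eq_fintype_card, Nat.card_congr Additive.toMul, hd] at h
      exact (Nat.pow_right_injective hp.out.two_le h).symm
    let b := Module.finBasisOfFinrankEq (ZMod p) (Additive V) hrk
    let ρ : MulAut V →* Module.End (ZMod p) (Additive V) :=
      { toFun := fun u => u.toMonoidHom.toAdditive.toZModLinearMap p
        map_one' := LinearMap.ext fun v => by simp
        map_mul' := fun u w => LinearMap.ext fun v => by simp }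
    let μ : MulAut V →* GL (Fin 2) (ZMod p) :=
      ((LinearMap.toMatrixAlgEquiv b).toMulEquiv.toMonoidHom.comp ρ).toHomUnits
    have hμ : Function.Injective μ := fun u w h => by
      have h1 : ρ u = ρ w := (LinearMap.toMatrixAlgEquiv b).injective (congrArg Units.val h)
      exact MulEquiv.ext fun v => congrArg Additive.toMul (LinearMap.congr_fun h1 (Additive.ofMul v))
    set H := (μ.comp ψ).range
    have hHodd : Odd (Nat.card H) := hodd.of_dvd_nat (Subgroup.card_range_dvd _)
    refine ⟨fun a ha => hμ ?_, fun a hprime hne => ?_⟩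
    · have h1 : (μ.comp ψ).rangeRestrict a ∈ commutator H := by
        have h2 := Subgroup.map_commutator ⊤ ⊤ (μ.comp ψ).rangeRestrict
        rw [← commutator_def] at h2
        have h3 : (μ.comp ψ).rangeRestrict a ∈ (commutator A).map (μ.comp ψ).rangeRestrict :=
          Subgroup.mem_map_of_mem _ ha
        rw [h2] at h3
        exact Subgroup.commutator_mono le_top le_top h3
      have h4 := congrArg Subtype.val (GL2Odd.pow_char_of_mem_commutator p hp2 H hHodd h1)
      rw [map_pow, map_one]
      simpa using h4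
    · have h1 : orderOf (μ (ψ a)) = orderOf (ψ a) := orderOf_injective μ hμ (ψ a)
      have h2 := orderOf_dvd_natCard (μ (ψ a))
      rw [h1, GLOrder.card_GL_two, Nat.card_eq_fintype_card, ZMod.card] at h2
      have h3 : (p ^ 2 - 1) = (p + 1) * (p - 1) := by
        simpa using Nat.sq_sub_sq p 1
      rw [h3] at h2
      rcases hprime.dvd_mul.1 h2 with h4 | h4
      · rcases hprime.dvd_mul.1 h4 with h5 | h5
        · exact absurd ((Nat.prime_dvd_prime_iff_eq hprime hp.out).1 h5) hne
        · exact Or.inl h5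
      · rcases hprime.dvd_mul.1 h4 with h5 | h5
        · exact Or.inr h5
        · exact Or.inl h5

/-- Bender-Glauberman 4.17. -/
theorem commutator_isPGroup (hp2 : p ≠ 2) (hR : IsPGroup p R) (hr : Cfsg.PRankLE p 2 R)
    {A : Type*} [Group A] [Finite A] (hodd : Odd (Nat.card A)) (φ : A →* MulAut R)
    (hφ : Function.Injective φ) :
    IsPGroup p ↥(commutator A) ∧
      ∀ q : ℕ, q.Prime → q ≠ p → q ∣ Nat.card A → q ∣ p - 1 ∨ q ∣ p + 1 := by
  obtain ⟨T, ψ, hT, hV, hker⟩ := exists_action hp2 hR hr
  letI : CommGroup (T ⧸ frattini T) :=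
    { mul_comm := fun a b => by
        induction a using QuotientGroup.induction_on with
        | H x =>
          induction b using QuotientGroup.induction_on with
          | H y =>
            rw [← QuotientGroup.mk_mul, ← QuotientGroup.mk_mul, QuotientGroup.eq]
            have h := PGroup.commutatorElement_mem_frattini hT y⁻¹ x⁻¹
            simpa [commutatorElement_def, mul_assoc] using h }
  have hexp : ∀ v : T ⧸ frattini T, v ^ p = 1 := fun v =>
    QuotientGroup.induction_on v fun x => by
      rw [← QuotientGroup.mk_pow, QuotientGroup.eq_one_iff]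
      exact PGroup.pow_mem_frattini hT x
  have hkey := pow_eq_one_of_mem_commutator_aut hp2 hexp
    (by rw [← Subgroup.index_eq_card]; exact hV) hodd (ψ.comp φ)
  refine ⟨fun x => ?_, fun q hq hqp hd => ?_⟩
  · have h1 : φ (x : A) ^ p ∈ ψ.ker := by
      rw [MonoidHom.mem_ker, map_pow]
      exact hkey.1 x x.2
    obtain ⟨k, hk⟩ := hker ⟨_, h1⟩
    refine ⟨k + 1, Subtype.ext (hφ ?_)⟩
    have h2 := congrArg Subtype.val hk
    rw [pow_succ', pow_mul, SubgroupClass.coe_pow, SubgroupClass.coe_pow, map_pow, map_pow,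
      OneMemClass.coe_one, map_one]
    simpa using h2
  · haveI : Fact q.Prime := ⟨hq⟩
    obtain ⟨a, ha⟩ := exists_prime_orderOf_dvd_card' (G := A) q hd
    have hne : ψ (φ a) ≠ 1 := by
      intro h
      obtain ⟨k, hk⟩ := IsPGroup.iff_orderOf.1 hker ⟨φ a, MonoidHom.mem_ker.2 h⟩
      rw [← Subgroup.orderOf_coe, orderOf_injective φ hφ, ha] at hk
      exact hqp ((Nat.prime_dvd_prime_iff_eq hq hp.out).1 (hq.dvd_of_dvd_pow hk.dvd))
    have hord : orderOf ((ψ.comp φ) a) = q := by
      refine orderOf_eq_prime ?_ hne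
      rw [← map_pow, ← ha, pow_orderOf_eq_one, map_one]
    have := hkey.2 a (hord.symm ▸ hq) (hord.symm ▸ hqp)
    rwa [hord] at this

end Cfsg.Agent.RankTwo
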