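/-
`p`-groups of rank at least three, `p` odd (Bender-Glauberman 5.1, 5.2).

* `exists_scn3`: a normal `E_{p^2}` lies in a self-centralizing normal abelian subgroup of rank three
* `omegaZ`, `omegaZ2` and their properties when some `E_{p^2}` is maximal elementary abelian
-/
import Cfsg.Agent.Lib.PNormal.RankTwo
import Cfsg.Agent.Lib.PGroup.NormalAbelian
import Cfsg.Agent.Lib.PGroup.Omega
import Cfsg.Agent.Lib.PGroup.Critical
import Cfsg.Agent.Lib.PGroup.UniqueOrderP

set_option autoImplicit false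

namespace Cfsg.Agent.RankTwo

open scoped commutatorElement

variable {R : Type*} [Group R] [Finite R] {p : ℕ} [hp : Fact p.Prime]

omit [Finite R] hp in
theorem commute_of_elementary {E : Subgroup R} (hE : Cfsg.IsElementaryAbelian p E) {a b : R}
    (ha : a ∈ E) (hb : b ∈ E) : Commute a b := by
  have := hE.1
  exact congrArg Subtype.val (mul_comm' (⟨a, ha⟩ : E) ⟨b, hb⟩)

theorem exists_elementary_cube (hR : IsPGroup p R) (hr : ¬ Cfsg.PRankLE p 2 R) :
    ∃ B : Subgroup R, Cfsg.IsElementaryAbelian p B ∧ p ^ 3 ≤ Nat.card B := by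
  simp only [Cfsg.PRankLE, not_forall, not_le] at hr
  obtain ⟨B, hBc, hBe, hBcard⟩ := hr
  refine ⟨B, ⟨hBc, hBe⟩, ?_⟩
  obtain ⟨k, hk⟩ := IsPGroup.iff_card.1 (hR.to_subgroup B)
  rw [hk] at hBcard ⊢
  exact Nat.pow_le_pow_right hp.out.pos ((Nat.pow_lt_pow_iff_right hp.out.one_lt).1 hBcard)

/-- If `x` of order dividing `p` centralizes a maximal elementary abelian `E` then `x ∈ E`. -/
theorem mem_of_maximal {E : Subgroup R} (hE : Cfsg.IsElementaryAbelian p E)
    (hEmax : ∀ B : Subgroup R, Cfsg.IsElementaryAbelian p B → E ≤ B → B = E) {x : R}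
    (hx : x ∈ Subgroup.centralizer (E : Set R)) (hxp : x ^ p = 1) : x ∈ E :=
  (hEmax _ (PNormal.elementary_sup hE (fun a ha => (hx a ha).symm) hxp) le_sup_left).le
    (Subgroup.mem_sup_right (Subgroup.mem_zpowers x))

/-- Bender-Glauberman 5.1. -/
theorem exists_scn3 (hp2 : p ≠ 2) (hR : IsPGroup p R) (hr : ¬ Cfsg.PRankLE p 2 R)
    (E : Subgroup R) [E.Normal] (hE : Cfsg.IsElementaryAbelian p E) (hE2 : Nat.card E = p ^ 2) :
    ∃ A : Subgroup R, E ≤ A ∧ A.Normal ∧ Subgroup.centralizer (A : Set R) = A ∧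
      ¬ Cfsg.PRankLE p 2 A := by
  obtain ⟨A₁, hEA, hA₁n, hA₁c, hA₁e, hA₁max⟩ := PGroup.exists_maximal_normal_elementary (p := p) E
    inferInstance (fun a ha b hb => (commute_of_elementary hE ha hb).eq) hE.2
  have hA₁ : p ^ 3 ≤ Nat.card A₁ := by
    by_contra hlt
    have hcard : Nat.card A₁ = p ^ 2 := by
      obtain ⟨k, hk⟩ := IsPGroup.iff_card.1 (hR.to_subgroup A₁)
      have h1 := Subgroup.card_le_of_le hEA
      rw [hE2, hk, Nat.pow_le_pow_iff_right hp.out.one_lt] at h1
      rw [hk, not_le, Nat.pow_lt_pow_iff_right hp.out.one_lt] at hlt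
      rw [hk, show k = 2 by omega]
    have hA₁E : A₁ = E := (Subgroup.eq_of_le_of_card_ge hEA (by rw [hcard, hE2])).symm
    subst hA₁E
    have hom : ∀ x ∈ Subgroup.centralizer (A₁ : Set R), x ^ p = 1 → x ∈ A₁ := fun x hx hxp =>
      PGroup.mem_of_maximal_normal_elementary hR hp2 hA₁c hA₁e hA₁max hx hxp
    obtain ⟨B, hB, hBc⟩ := exists_elementary_cube hR hr
    have h1 : B ⊓ Subgroup.centralizer (A₁ : Set R) ≤ A₁ := fun x hx => hom x hx.2 (hB.2 x hx.1)
    have h2 := PNormal.card_le_mul_centralizer hR hE hE2 B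
    have h3 : B ⊓ Subgroup.centralizer (A₁ : Set R) = A₁ := by
      refine Subgroup.eq_of_le_of_card_ge h1 ?_
      rw [hE2]
      refine Nat.le_of_mul_le_mul_left
        (?_ : p * p ^ 2 ≤ p * Nat.card ↥(B ⊓ Subgroup.centralizer (A₁ : Set R))) hp.out.pos
      rw [← pow_succ']
      exact hBc.trans h2
    have h4 : B ≤ Subgroup.centralizer (A₁ : Set R) := fun x hx a ha =>
      (commute_of_elementary hB (h3.ge ha).1 hx).eq
    have h5 := Subgroup.card_le_of_le ((le_inf le_rfl h4).trans h1)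
    rw [hE2] at h5
    exact absurd (hBc.trans h5) (not_le.2 (Nat.pow_lt_pow_right hp.out.one_lt (by norm_num)))
  obtain ⟨A, hA₁A, hmax⟩ := Finite.exists_le_maximal (α := Subgroup R)
    (p := fun A => A.Normal ∧ ∀ a ∈ A, ∀ b ∈ A, a * b = b * a) (a := A₁) ⟨hA₁n, hA₁c⟩
  have hAn : A.Normal := hmax.prop.1
  refine ⟨A, hEA.trans hA₁A, hAn, PGroup.centralizer_eq_of_maximal_normal_abelian hR hmax.prop.2
    fun B h1 h2 h3 => le_antisymm (hmax.2 ⟨h1, h2⟩ h3) h3, fun h => ?_⟩
  have hle := h (A₁.subgroupOf A)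
    ⟨⟨fun a b => Subtype.ext (Subtype.ext (hA₁c _ a.2 _ b.2))⟩⟩
    (fun a ha => Subtype.ext (hA₁e _ ha))
  rw [Nat.card_congr (Subgroup.subgroupOfEquivOfLe hA₁A).toEquiv] at hle
  exact absurd (hA₁.trans hle) (not_le.2 (Nat.pow_lt_pow_right hp.out.one_lt (by norm_num)))

variable (p R) in
/-- The elements of order dividing `p` of the centre. -/
def omegaZ : Subgroup R := Subgroup.closure {x : R | x ∈ Subgroup.center R ∧ x ^ p = 1}

variable (p R) in
/-- The elements of order dividing `p` of the second centre generate this subgroup. -/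
def omegaZ2 : Subgroup R :=
  Subgroup.closure {x : R | x ∈ Subgroup.upperCentralSeries R 2 ∧ x ^ p = 1}

omit [Finite R] hp in
theorem mem_omegaZ {x : R} : x ∈ omegaZ R p ↔ x ∈ Subgroup.center R ∧ x ^ p = 1 := by
  refine ⟨fun hx => ?_, fun hx => Subgroup.subset_closure hx⟩
  induction hx using Subgroup.closure_induction with
  | mem x hx => exact hx
  | one => exact ⟨one_mem _, one_pow _⟩
  | mul x y _ _ hx hy =>
    exact ⟨mul_mem hx.1 hy.1, by
      rw [(PGroup.commute_of_mem_center hx.1 y).symm.mul_pow, hx.2, hy.2, one_mul]⟩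
  | inv x _ hx => exact ⟨inv_mem hx.1, by rw [inv_pow, hx.2, inv_one]⟩

omit [Finite R] hp in
theorem mem_upperCentralSeries_two {x : R} :
    x ∈ Subgroup.upperCentralSeries R 2 ↔ ∀ g : R, ⁅x, g⁆ ∈ Subgroup.center R := by
  rw [Subgroup.mem_upperCentralSeries_succ_iff, Subgroup.upperCentralSeries_one]

omit [Finite R] in
theorem mem_omegaZ2 (hp2 : p ≠ 2) {x : R} :
    x ∈ omegaZ2 R p ↔ x ∈ Subgroup.upperCentralSeries R 2 ∧ x ^ p = 1 := by
  refine ⟨fun hx => ?_, fun hx => Subgroup.subset_closure hx⟩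
  induction hx using Subgroup.closure_induction with
  | mem x hx => exact hx
  | one => exact ⟨one_mem _, one_pow _⟩
  | mul x y _ _ hx hy =>
    refine ⟨mul_mem hx.1 hy.1, ?_⟩
    have hc := mem_upperCentralSeries_two.1 hy.1 x
    rw [PGroup.mul_pow_prime_eq hp.out hp2 (PGroup.commute_of_mem_center hc x)
      (PGroup.commute_of_mem_center hc y), hx.2, hy.2, one_mul]
    rw [← PGroup.commutator_pow_left (PGroup.commute_of_mem_center hc y), hy.2,
      commutatorElement_one_left]
  | inv x _ hx => exact ⟨inv_mem hx.1, by rw [inv_pow, hx.2, inv_one]⟩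

omit [Finite R] in
theorem commutator_mem_omegaZ (hp2 : p ≠ 2) {w : R} (hw : w ∈ omegaZ2 R p) (g : R) :
    ⁅w, g⁆ ∈ omegaZ R p := by
  obtain ⟨h1, h2⟩ := (mem_omegaZ2 hp2).1 hw
  have hc := mem_upperCentralSeries_two.1 h1 g
  refine mem_omegaZ.2 ⟨hc, ?_⟩
  rw [← PGroup.commutator_pow_left (PGroup.commute_of_mem_center hc w), h2,
    commutatorElement_one_left]

omit [Finite R] in
theorem omegaZ2_characteristic (hp2 : p ≠ 2) : (omegaZ2 R p).Characteristic := by
  refine PGroup.characteristic_of_forall_mem fun φ x hx => ?_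
  obtain ⟨h1, h2⟩ := (mem_omegaZ2 hp2).1 hx
  refine (mem_omegaZ2 hp2).2 ⟨mem_upperCentralSeries_two.2 fun g => ?_, by
    rw [← map_pow, h2, map_one]⟩
  obtain ⟨g', rfl⟩ := φ.surjective g
  rw [← map_commutatorElement φ]
  exact Subgroup.mem_center_iff.2 fun k => by
    obtain ⟨k', rfl⟩ := φ.surjective k
    rw [← map_mul, ← map_mul, Subgroup.mem_center_iff.1 (mem_upperCentralSeries_two.1 h1 g') k']

/-- Bender-Glauberman 5.2. -/
theorem narrow_structure (hp2 : p ≠ 2) (hR : IsPGroup p R) (hr : ¬ Cfsg.PRankLE p 2 R)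
    (E : Subgroup R) (hE : Cfsg.IsElementaryAbelian p E) (hE2 : Nat.card E = p ^ 2)
    (hEmax : ∀ B : Subgroup R, Cfsg.IsElementaryAbelian p B → E ≤ B → B = E) :
    ¬ E ≤ Subgroup.centralizer (omegaZ2 R p : Set R) ∧ Nat.card (omegaZ R p) = p ∧
      (Cfsg.IsElementaryAbelian p (omegaZ2 R p) ∧ Nat.card (omegaZ2 R p) = p ^ 2) ∧
      (Subgroup.centralizer (omegaZ2 R p : Set R)).Characteristic ∧
      (Subgroup.centralizer (omegaZ2 R p : Set R)).index = p := by
  have hone : 1 < p := hp.out.one_lt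
  obtain ⟨B, hB, hBc⟩ := exists_elementary_cube hR hr
  have hZE : omegaZ R p ≤ E := fun x hx =>
    mem_of_maximal hE hEmax (Subgroup.center_le_centralizer _ (mem_omegaZ.1 hx).1)
      (mem_omegaZ.1 hx).2
  have hnotfull : ¬ E ≤ Subgroup.center R := by
    intro h
    have h1 : B ≤ E := fun x hx => mem_of_maximal hE hEmax
      (fun e he => (Subgroup.mem_center_iff.1 (h he) x).symm) (hB.2 x hx)
    have h2 := Subgroup.card_le_of_le h1
    rw [hE2] at h2
    exact absurd (hBc.trans h2) (not_le.2 (Nat.pow_lt_pow_right hone (by norm_num)))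
  -- the normal `E_{p^2}` and a central element
  obtain ⟨U, hUn, hUe, hUc⟩ := PNormal.exists_normal_card_sq hR hB hBc
  have hU1 : (⊥ : Subgroup R) < U := by
    rw [bot_lt_iff_ne_bot]
    rintro rfl
    rw [Subgroup.card_bot] at hUc
    exact absurd hUc.symm (Nat.one_lt_pow two_ne_zero hone).ne'
  obtain ⟨z, hzU, hz1, -, hzc⟩ := PNormal.exists_central_mod hR hU1
  rw [Subgroup.mem_bot] at hz1
  have hzC : z ∈ Subgroup.center R := Subgroup.mem_center_iff.2 fun g =>
    mul_inv_eq_iff_eq_mul.1 (mul_inv_eq_one.1 (Subgroup.mem_bot.1 (hzc g)))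
  have hzZ : z ∈ omegaZ R p := mem_omegaZ.2 ⟨hzC, hUe.2 z hzU⟩
  -- `|Ω₁(Z(R))| = p`
  have hZcard : Nat.card (omegaZ R p) = p := by
    obtain ⟨k, hk, hk'⟩ := (Nat.dvd_prime_pow hp.out).1 (hE2 ▸ Subgroup.card_dvd_of_le hZE)
    interval_cases k
    · rw [pow_zero, Subgroup.card_eq_one] at hk'
      exact absurd (Subgroup.mem_bot.1 (hk' ▸ hzZ)) hz1
    · rw [hk', pow_one]
    · have h : omegaZ R p = E := Subgroup.eq_of_le_of_card_ge hZE (by rw [hk', hE2])
      exact absurd (fun x hx => (mem_omegaZ.1 (h.ge hx)).1) hnotfull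
  -- `E` is not in `W`
  have hEW : ¬ E ≤ omegaZ2 R p := by
    intro h
    have hEn : E.Normal := ⟨fun e he g => by
      have h1 := inv_mem (hZE (commutator_mem_omegaZ hp2 (h he) g))
      rw [commutatorElement_inv] at h1
      have h2 := mul_mem h1 he
      simpa [commutatorElement_def] using h2⟩
    obtain ⟨A, hEA, hAn, hAC, hA3⟩ := exists_scn3 hp2 hR hr E hE hE2
    obtain ⟨D, hD, hDc⟩ := exists_elementary_cube (hR.to_subgroup A) hA3
    have h1 : D.map A.subtype ≤ E := by
      rintro _ ⟨d, hd, rfl⟩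
      refine mem_of_maximal hE hEmax (fun e he => ?_) (congrArg Subtype.val (hD.2 d hd))
      exact Subgroup.mem_centralizer_iff.1 (hAC.ge d.2) e (hEA he)
    have h2 := Subgroup.card_le_of_le h1
    rw [Subgroup.card_map_of_injective A.subtype_injective, hE2] at h2
    exact absurd (hDc.trans h2) (not_le.2 (Nat.pow_lt_pow_right hone (by norm_num)))
  -- upper bound
  obtain ⟨e, heE, heW⟩ := SetLike.not_le_iff_exists.1 hEW
  have hWE : Nat.card ↥(omegaZ2 R p ⊓ E) ≤ p := by
    obtain ⟨k, hk, hk'⟩ := (Nat.dvd_prime_pow hp.out).1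
      (hE2 ▸ Subgroup.card_dvd_of_le (inf_le_right : omegaZ2 R p ⊓ E ≤ E))
    rw [hk']
    interval_cases k
    · simpa using hone.le
    · simp
    · have h : omegaZ2 R p ⊓ E = E :=
        Subgroup.eq_of_le_of_card_ge inf_le_right (by rw [hk', hE2])
      exact absurd (h.ge heE).1 heW
  have heZ : e ∉ omegaZ R p := fun h => heW ((mem_omegaZ2 hp2).2
    ⟨mem_upperCentralSeries_two.2 fun g => by
      rw [PGroup.commutator_eq_one_of_mem_center (mem_omegaZ.1 h).1]
      exact one_mem _, hE.2 e heE⟩)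
  have hEeq : omegaZ R p ⊔ Subgroup.zpowers e = E := by
    refine Subgroup.eq_of_le_of_card_ge (sup_le hZE (Subgroup.zpowers_le.2 heE)) ?_
    rw [hE2, PNormal.card_sup_zpowers hZcard
      (fun z hz => commute_of_elementary hE heE (hZE hz)) (hE.2 e heE) heZ]
  let φ : omegaZ2 R p →* omegaZ R p :=
    { toFun := fun w => ⟨⁅(w : R), e⁆, commutator_mem_omegaZ hp2 w.2 e⟩
      map_one' := Subtype.ext (commutatorElement_one_left e)
      map_mul' := fun w w' => Subtype.ext <| by
        have h := (mem_omegaZ.1 (commutator_mem_omegaZ hp2 w'.2 e)).1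
        show ⁅(w : R) * w', e⁆ = ⁅(w : R), e⁆ * ⁅(w' : R), e⁆
        rw [PGroup.commutator_mul_left (PGroup.commute_of_mem_center h w)]
        exact ((PGroup.commute_of_mem_center h _).eq).symm }
  have hker : φ.ker.map (omegaZ2 R p).subtype ≤ omegaZ2 R p ⊓ E := by
    rintro _ ⟨w, hw, rfl⟩
    refine ⟨w.2, mem_of_maximal hE hEmax ?_ ((mem_omegaZ2 hp2).1 w.2).2⟩
    have hwe : Commute (w : R) e := commutatorElement_eq_one_iff_commute.1 (congrArg Subtype.val hw)
    rw [← hEeq]
    intro a ha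
    have hle : omegaZ R p ⊔ Subgroup.zpowers e ≤ Subgroup.centralizer ({(w : R)} : Set R) :=
      sup_le (fun z hz => Subgroup.mem_centralizer_singleton_iff.2
          (PGroup.commute_of_mem_center (mem_omegaZ.1 hz).1 (w : R)).symm.eq)
        (Subgroup.zpowers_le.2 (Subgroup.mem_centralizer_singleton_iff.2 hwe.symm.eq))
    exact Subgroup.mem_centralizer_singleton_iff.1 (hle ha)
  have hWle : Nat.card (omegaZ2 R p) ≤ p ^ 2 := by
    rw [← Subgroup.card_mul_index φ.ker, Subgroup.index_ker]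
    calc Nat.card φ.ker * Nat.card φ.range ≤ p * p := by
          refine Nat.mul_le_mul ?_ ((Subgroup.card_le_card_group _).trans hZcard.le)
          rw [← Subgroup.card_map_of_injective (omegaZ2 R p).subtype_injective]
          exact (Subgroup.card_le_of_le hker).trans hWE
      _ = p ^ 2 := (sq p).symm
  -- lower bound
  have hUW : U ≤ omegaZ2 R p := by
    have hzU' : Subgroup.zpowers z ≤ U := Subgroup.zpowers_le.2 hzU
    have hzp : Nat.card (Subgroup.zpowers z) = p := by
      rw [Nat.card_zpowers, orderOf_eq_prime (hUe.2 z hzU) hz1]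
    have hlt : Subgroup.zpowers z < U := lt_of_le_of_ne hzU' fun h => by
      rw [← h, hzp] at hUc
      nlinarith
    have hzn : (Subgroup.zpowers z).Normal := PGroup.zpowers_normal_of_mem_center hzC
    obtain ⟨b, hbU, hbz, -, hbc⟩ := PNormal.exists_central_mod hR hlt
    have hU : Subgroup.zpowers z ⊔ Subgroup.zpowers b = U := by
      refine Subgroup.eq_of_le_of_card_ge (sup_le hzU' (Subgroup.zpowers_le.2 hbU)) ?_
      rw [hUc, PNormal.card_sup_zpowers hzp
        (fun x hx => commute_of_elementary hUe hbU (hzU' hx)) (hUe.2 b hbU) hbz]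
    rw [← hU]
    refine sup_le (Subgroup.zpowers_le.2 ((mem_omegaZ2 hp2).2
      ⟨mem_upperCentralSeries_two.2 fun g => ?_, hUe.2 z hzU⟩)) (Subgroup.zpowers_le.2
        ((mem_omegaZ2 hp2).2 ⟨mem_upperCentralSeries_two.2 fun g => ?_, hUe.2 b hbU⟩))
    · rw [PGroup.commutator_eq_one_of_mem_center hzC]
      exact one_mem _
    · rw [← commutatorElement_inv]
      exact inv_mem (Subgroup.zpowers_le.2 hzC (by simpa [commutatorElement_def] using hbc g))
  have hUeq : U = omegaZ2 R p := Subgroup.eq_of_le_of_card_ge hUW (hUc.symm ▸ hWle)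
  have hWe : Cfsg.IsElementaryAbelian p (omegaZ2 R p) := hUeq ▸ hUe
  have hWc : Nat.card (omegaZ2 R p) = p ^ 2 := hUeq ▸ hUc
  have hET : ¬ E ≤ Subgroup.centralizer (omegaZ2 R p : Set R) := by
    intro h
    have h1 : omegaZ2 R p ≤ E := fun w hw => mem_of_maximal hE hEmax
      (fun a ha => (Subgroup.mem_centralizer_iff.1 (h ha) w hw).symm) (hWe.2 w hw)
    exact hEW (Subgroup.eq_of_le_of_card_ge h1 (by rw [hWc, hE2])).ge
  have hWchar := omegaZ2_characteristic (R := R) hp2
  refine ⟨hET, hZcard, ⟨hWe, hWc⟩, PGroup.characteristic_of_forall_mem fun φ x hx => ?_, ?_⟩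
  · intro w hw
    obtain ⟨w', rfl⟩ := φ.surjective w
    rw [← map_mul, ← map_mul,
      Subgroup.mem_centralizer_iff.1 hx w' ((PGroup.aut_mem_iff φ w').1 hw)]
  · set T := Subgroup.centralizer (omegaZ2 R p : Set R) with hT
    have hn : (omegaZ2 R p).Normal := inferInstance
    have h1 := PNormal.card_le_mul_centralizer hR hWe hWc ⊤
    rw [top_inf_eq, Subgroup.card_top, ← Subgroup.card_mul_index T, mul_comm (Nat.card T)] at h1
    have h2 : T.index ≤ p := Nat.le_of_mul_le_mul_right h1 Nat.card_pos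
    obtain ⟨k, hk⟩ := hR.index T
    have hk1 : k ≤ 1 := (Nat.pow_le_pow_iff_right hone).1 (by rw [← hk, pow_one]; exact h2)
    interval_cases k
    · rw [pow_zero, Subgroup.index_eq_one] at hk
      exact absurd (hk ▸ le_top) hET
    · rw [hk, pow_one]

end Cfsg.Agent.RankTwo
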