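/-
Automorphisms of narrow `p`-groups of rank at least three (Bender-Glauberman 5.5).

* `exists_maximal_of_centralizer`
* `index_commutator_le` : the normal subgroups of `Ω₁` of a critical subgroup form a series of steps `p`
* `narrow_aut` : `A'` is a `p`-group and `p'`-elements have order dividing `p - 1`
-/
import Cfsg.Agent.Lib.RankTwo.Narrow
import Cfsg.Agent.Lib.RankTwo.Auto

set_option autoImplicit false

namespace Cfsg.Agent.RankTwo

open scoped commutatorElement

variable {R : Type*} [Group R] [Finite R] {p : ℕ} [hp : Fact p.Prime]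

/-- An elementary `X` whose centralizer has rank at most two lies in a maximal one of order `p ^ 2`. -/
theorem exists_maximal_of_centralizer (hR : IsPGroup p R) (hr : ¬ Cfsg.PRankLE p 2 R)
    (X : Subgroup R) (hX : Cfsg.IsElementaryAbelian p X)
    (hC : Cfsg.PRankLE p 2 ↥(Subgroup.centralizer (X : Set R))) :
    ∃ E : Subgroup R, Cfsg.IsElementaryAbelian p E ∧ Nat.card E = p ^ 2 ∧
      ∀ B : Subgroup R, Cfsg.IsElementaryAbelian p B → E ≤ B → B = E := by
  obtain ⟨E, hXE, hmax⟩ := Finite.exists_le_maximal (α := Subgroup R)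
    (p := fun B => Cfsg.IsElementaryAbelian p B) (a := X) hX
  refine ⟨E, hmax.prop, ?_, fun B hB hle => le_antisymm (hmax.2 hB hle) hle⟩
  have hEC : E ≤ Subgroup.centralizer (X : Set R) := fun e he x hx =>
    (commute_of_elementary hmax.prop (hXE hx) he).eq
  have hle : Nat.card E ≤ p ^ 2 := by
    have := hC (E.subgroupOf _) ⟨⟨fun a b => Subtype.ext (Subtype.ext
      (commute_of_elementary hmax.prop a.2 b.2).eq)⟩⟩ fun a ha => Subtype.ext (hmax.prop.2 _ ha)
    rwa [Nat.card_congr (Subgroup.subgroupOfEquivOfLe hEC).toEquiv] at this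
  obtain ⟨k, hk⟩ := IsPGroup.iff_card.1 (hR.to_subgroup E)
  have hk2 : k ≤ 2 := (Nat.pow_le_pow_iff_right hp.out.one_lt).1 (hk ▸ hle)
  rw [hk]
  by_contra hne
  -- otherwise `E` is central
  have hk1 : k ≤ 1 := by
    rcases Nat.lt_or_ge k 2 with h | h
    · omega
    · exact absurd (by rw [show k = 2 by omega]) hne
  obtain ⟨B, hB, hBc⟩ := exists_elementary_cube hR hr
  have hBne : B ≠ ⊥ := by
    intro h
    rw [h, Subgroup.card_bot] at hBc
    exact absurd hBc (not_le.2 (Nat.one_lt_pow (by norm_num) hp.out.one_lt))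
  haveI : Nontrivial R := by
    obtain ⟨b, hb, hb1⟩ := (Subgroup.bot_or_exists_ne_one B).resolve_left hBne
    exact ⟨b, 1, hb1⟩
  obtain ⟨z, -, hzc, hzp, hz1⟩ : ∃ z, z ∈ (⊤ : Subgroup R) ∧ z ∈ Subgroup.center R ∧ z ^ p = 1 ∧ z ≠ 1 := by
    have := hR.center_nontrivial
    have hd : p ∣ Nat.card (Subgroup.center R) := by
      obtain ⟨n, hn0, hn⟩ := ((hR.to_subgroup (Subgroup.center R)).nontrivial_iff_card).1 this
      exact hn ▸ dvd_pow_self p hn0.ne'
    obtain ⟨z, hz⟩ := exists_prime_orderOf_dvd_card' p hd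
    refine ⟨z, Subgroup.mem_top _, z.2, ?_, fun h => ?_⟩
    · rw [← SubgroupClass.coe_pow, ← hz, pow_orderOf_eq_one, OneMemClass.coe_one]
    · rw [← Subgroup.orderOf_coe, h, orderOf_one] at hz
      exact hp.out.ne_one hz.symm
  have hzE : z ∈ E := mem_of_maximal hmax.prop
    (fun B hB hle => le_antisymm (hmax.2 hB hle) hle) (Subgroup.center_le_centralizer _ hzc) hzp
  have hEz : Subgroup.zpowers z = E := by
    refine Subgroup.eq_of_le_of_card_ge (Subgroup.zpowers_le.2 hzE) ?_
    rw [Nat.card_zpowers, orderOf_eq_prime hzp hz1, hk]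
    exact (Nat.pow_le_pow_right hp.out.pos hk1).trans (pow_one p).le
  have hcent : Subgroup.centralizer (X : Set R) = ⊤ := by
    refine eq_top_iff.2 fun g _ x hx => ?_
    exact (Subgroup.mem_center_iff.1 (Subgroup.zpowers_le.2 hzc (hEz.ge (hXE hx))) g).symm
  have hlast := hC (B.subgroupOf _) ⟨⟨fun a b => Subtype.ext (Subtype.ext
      (commute_of_elementary hB a.2 b.2).eq)⟩⟩ fun a ha => Subtype.ext (hB.2 _ ha)
  rw [Nat.card_congr (Subgroup.subgroupOfEquivOfLe (hcent.symm ▸ le_top : B ≤ _)).toEquiv] at hlast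
  exact absurd (hBc.trans hlast) (not_le.2 (Nat.pow_lt_pow_right hp.out.one_lt (by norm_num)))

/-- In the presence of a maximal `E_{p^2}`, a non-trivial normal subgroup `X` of `U` has
`|X : [X, R]| ≤ p`. -/
theorem index_commutator_le (hp2 : p ≠ 2) (hR : IsPGroup p R) (hr : ¬ Cfsg.PRankLE p 2 R)
    {E : Subgroup R} (hE : Cfsg.IsElementaryAbelian p E) (hE2 : Nat.card E = p ^ 2)
    (hEmax : ∀ B : Subgroup R, Cfsg.IsElementaryAbelian p B → E ≤ B → B = E)
    {U : Subgroup R} (hUe : ∀ u ∈ U, u ^ p = 1)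
    (hUc : ∀ u ∈ U, ∀ g : R, ⁅u, g⁆ ∈ U ⊓ Subgroup.centralizer (U : Set R))
    {X : Subgroup R} [X.Normal] (hXU : X ≤ U) :
    Nat.card X ≤ p * Nat.card ↥(⁅X, (⊤ : Subgroup R)⁆) := by
  obtain ⟨hET, hZ, ⟨-, -⟩, -, -⟩ := narrow_structure hp2 hR hr E hE hE2 hEmax
  have hEW : ¬ E ≤ omegaZ2 R p := fun h => hET fun e he w hw => by
    obtain ⟨hWe, -⟩ := (narrow_structure hp2 hR hr E hE hE2 hEmax).2.2.1
    exact (commute_of_elementary hWe hw (h he)).eq
  obtain ⟨e, heE, heW⟩ := SetLike.not_le_iff_exists.1 hEW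
  have hZE : omegaZ R p ≤ E := fun x hx =>
    mem_of_maximal hE hEmax (Subgroup.center_le_centralizer _ (mem_omegaZ.1 hx).1)
      (mem_omegaZ.1 hx).2
  have heZ : e ∉ omegaZ R p := fun h => heW ((mem_omegaZ2 hp2).2
    ⟨mem_upperCentralSeries_two.2 fun g => by
      rw [PGroup.commutator_eq_one_of_mem_center (mem_omegaZ.1 h).1]
      exact one_mem _, hE.2 e heE⟩)
  have hEeq : omegaZ R p ⊔ Subgroup.zpowers e = E := by
    refine Subgroup.eq_of_le_of_card_ge (sup_le hZE (Subgroup.zpowers_le.2 heE)) ?_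
    rw [hE2, PNormal.card_sup_zpowers hZ
      (fun z hz => commute_of_elementary hE heE (hZE hz)) (hE.2 e heE) heZ]
  -- centralizing `e` is centralizing `E`
  have hCe : ∀ x : R, Commute x e → x ^ p = 1 → x ∈ E := fun x hx hxp => by
    refine mem_of_maximal hE hEmax ?_ hxp
    rw [← hEeq]
    intro a ha
    have hle : omegaZ R p ⊔ Subgroup.zpowers e ≤ Subgroup.centralizer ({x} : Set R) :=
      sup_le (fun z hz => Subgroup.mem_centralizer_singleton_iff.2
          (PGroup.commute_of_mem_center (mem_omegaZ.1 hz).1 x).symm.eq)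
        (Subgroup.zpowers_le.2 (Subgroup.mem_centralizer_singleton_iff.2 hx.symm.eq))
    exact Subgroup.mem_centralizer_singleton_iff.1 (hle ha)
  let φ : X →* R :=
    { toFun := fun x => ⁅(x : R), e⁆
      map_one' := commutatorElement_one_left e
      map_mul' := fun x y => by
        have hc := Subgroup.mem_centralizer_iff.1 (hUc y (hXU y.2) e).2
        show ⁅(x : R) * y, e⁆ = ⁅(x : R), e⁆ * ⁅(y : R), e⁆
        rw [PGroup.commutator_mul_left (hc x (hXU x.2))]
        exact (hc _ (hUc x (hXU x.2) e).1).symm }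
  have hrange : φ.range ≤ ⁅X, (⊤ : Subgroup R)⁆ := by
    rintro _ ⟨x, rfl⟩
    exact Subgroup.commutator_mem_commutator x.2 (Subgroup.mem_top e)
  have hker : φ.ker.map X.subtype ≤ X ⊓ E := by
    rintro _ ⟨x, hx, rfl⟩
    exact ⟨x.2, hCe x (commutatorElement_eq_one_iff_commute.1 hx) (hUe x (hXU x.2))⟩
  rw [← Subgroup.card_mul_index φ.ker, Subgroup.index_ker]
  by_cases hsmall : Nat.card φ.ker ≤ p
  · exact Nat.mul_le_mul hsmall (Subgroup.card_le_of_le hrange)
  by_contra hgt
  have hkE : Nat.card φ.ker ≤ p ^ 2 := by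
    rw [← Subgroup.card_map_of_injective X.subtype_injective, ← hE2]
    exact Subgroup.card_le_of_le (hker.trans inf_le_right)
  have hk2 : Nat.card φ.ker = p ^ 2 := by
    obtain ⟨k, hk⟩ := IsPGroup.iff_card.1 ((hR.to_subgroup X).to_subgroup φ.ker)
    have h1 := (Nat.pow_le_pow_iff_right hp.out.one_lt).1 (hk ▸ hkE)
    have h2 : 1 < k := by
      by_contra h
      exact hsmall (hk ▸ (Nat.pow_le_pow_right hp.out.pos (Nat.not_lt.1 h)).trans (pow_one p).le)
    rw [hk, show k = 2 by omega]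
  -- so `E ≤ X`, and `[X, R] = [X, e]`
  have hEX : E ≤ X := by
    have h := Subgroup.eq_of_le_of_card_ge (hker.trans inf_le_right)
      (by rw [Subgroup.card_map_of_injective X.subtype_injective, hk2, hE2])
    rw [← h]
    exact Subgroup.map_subtype_le _
  set Y := ⁅X, (⊤ : Subgroup R)⁆ with hY
  have hYn : Y.Normal := Subgroup.commutator_normal X ⊤
  have hYU : ∀ y ∈ Y, y ∈ U ⊓ Subgroup.centralizer (U : Set R) := fun y hy =>
    (Subgroup.commutator_le (H₁ := X) (H₂ := (⊤ : Subgroup R))).2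
      (fun x hx g _ => hUc x (hXU hx) g) hy
  have hYE : Y ≤ E := fun y hy => hCe y
    (Subgroup.mem_centralizer_iff.1 (hYU y hy).2 e (hXU (hEX heE))).symm (hUe y (hYU y hy).1)
  have hYne : Y ≠ E := fun h => by
    haveI hEn : E.Normal := h ▸ hYn
    obtain ⟨A, hEA, hAn, hAC, hA3⟩ := exists_scn3 hp2 hR hr E hE hE2
    obtain ⟨D, hD, hDc⟩ := exists_elementary_cube (hR.to_subgroup A) hA3
    have h1 : D.map A.subtype ≤ E := by
      rintro _ ⟨d, hd, rfl⟩
      refine mem_of_maximal hE hEmax (fun a ha => ?_) (congrArg Subtype.val (hD.2 d hd))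
      exact Subgroup.mem_centralizer_iff.1 (hAC.ge d.2) a (hEA ha)
    have h2 := Subgroup.card_le_of_le h1
    rw [Subgroup.card_map_of_injective A.subtype_injective, hE2] at h2
    exact absurd (hDc.trans h2) (not_le.2 (Nat.pow_lt_pow_right hp.out.one_lt (by norm_num)))
  have hYle : Y ≤ omegaZ R p := by
    rcases eq_or_ne Y ⊥ with h | h
    · rw [h]; exact bot_le
    obtain ⟨z, hzY, hzC, hz⟩ : ∃ z ∈ Y, z ∈ Subgroup.center R ∧ z ≠ 1 := by
      obtain ⟨z, hz, hz1⟩ := (Subgroup.bot_or_exists_ne_one (Y ⊓ Subgroup.center R)).resolve_left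
        (PGroup.inf_center_ne_bot hR h)
      exact ⟨z, hz.1, hz.2, hz1⟩
    have hzp : z ^ p = 1 := hUe z (hYU z hzY).1
    have hYc : Nat.card Y ≤ p := by
      obtain ⟨k, hk, hk'⟩ := (Nat.dvd_prime_pow hp.out).1 (hE2 ▸ Subgroup.card_dvd_of_le hYE)
      rcases Nat.lt_or_ge k 2 with h2 | h2
      · rw [hk']
        exact (Nat.pow_le_pow_right hp.out.pos (by omega)).trans (pow_one p).le
      · exact absurd (Subgroup.eq_of_le_of_card_ge hYE (by rw [hk', hE2, show k = 2 by omega])) hYne
    have hzY' : Subgroup.zpowers z = Y := Subgroup.eq_of_le_of_card_ge (Subgroup.zpowers_le.2 hzY)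
      (by rw [Nat.card_zpowers, orderOf_eq_prime hzp hz]; exact hYc)
    rw [← hzY']
    exact Subgroup.zpowers_le.2 (mem_omegaZ.2 ⟨hzC, hzp⟩)
  exact heW ((mem_omegaZ2 hp2).2 ⟨mem_upperCentralSeries_two.2 fun g =>
    (mem_omegaZ.1 (hYle (Subgroup.commutator_mem_commutator (hEX heE) (Subgroup.mem_top g)))).1,
    hE.2 e heE⟩)

/-- Bender-Glauberman 5.5 for rank at least three. -/
theorem narrow_aut (hp2 : p ≠ 2) (hR : IsPGroup p R) (hr : ¬ Cfsg.PRankLE p 2 R)
    {E : Subgroup R} (hE : Cfsg.IsElementaryAbelian p E) (hE2 : Nat.card E = p ^ 2)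
    (hEmax : ∀ B : Subgroup R, Cfsg.IsElementaryAbelian p B → E ≤ B → B = E)
    {A : Type*} [Group A] [Finite A] (φ : A →* MulAut R) (hφ : Function.Injective φ) :
    IsPGroup p ↥(commutator A) ∧
      ∀ a : A, (orderOf a).Coprime p → orderOf a ∣ p - 1 := by
  obtain ⟨U, hUchar, hUe, hUc, hfaith⟩ := exists_faithful hp2 hR
  haveI := hUchar
  -- on each factor the action is through a cyclic group of exponent `p - 1`
  have hfactor : ∀ X : Subgroup R, X.Characteristic → X ≤ U → ∀ a : A,
      a ∈ commutator A ∨ (∃ b, a = b ^ (p - 1)) → ∀ x ∈ X, x⁻¹ * φ a x ∈ ⁅X, (⊤ : Subgroup R)⁆ := by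
    intro X hX hXU
    haveI := hX
    set Y := ⁅X, (⊤ : Subgroup R)⁆ with hY
    haveI hYc : Y.Characteristic := inferInstance
    haveI hN : (Y.subgroupOf X).Normal := inferInstance
    have hYX : Y ≤ X := Subgroup.commutator_le_left X ⊤
    have hinv : ∀ a : A, (Y.subgroupOf X).map (restrictAut X (φ a)).toMonoidHom = Y.subgroupOf X := by
      intro a
      refine Subgroup.eq_of_le_of_card_ge ?_ (le_of_eq ?_)
      · rintro _ ⟨y, hy, rfl⟩
        show φ a (y : R) ∈ Y
        exact (PGroup.aut_mem_iff (φ a) (y : R)).2 (show (y : R) ∈ Y from hy)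
      · rw [Subgroup.card_map_of_injective (MulEquiv.injective _)]
    set Q := X ⧸ Y.subgroupOf X with hQ
    let ψ : A →* MulAut Q :=
      { toFun := fun a => QuotientGroup.congr _ _ (restrictAut X (φ a)) (hinv a)
        map_one' := MulEquiv.ext fun x => QuotientGroup.induction_on x fun y => by
          show ((restrictAut X (φ 1) y : X) : Q) = (y : Q)
          rw [map_one, map_one, MulAut.one_apply]
        map_mul' := fun a b => MulEquiv.ext fun x => QuotientGroup.induction_on x fun y => by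
          show ((restrictAut X (φ (a * b)) y : X) : Q) =
            ((restrictAut X (φ a) (restrictAut X (φ b) y) : X) : Q)
          rw [map_mul, map_mul, MulAut.mul_apply] }
    have hQcard : Nat.card Q ≤ p := by
      have h1 := index_commutator_le hp2 hR hr hE hE2 hEmax hUe hUc hXU
      rw [hQ, ← Subgroup.index_eq_card]
      have h2 := Subgroup.card_mul_index (Y.subgroupOf X)
      rw [Nat.card_congr (Subgroup.subgroupOfEquivOfLe hYX).toEquiv] at h2
      rw [← h2, mul_comm] at h1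
      exact Nat.le_of_mul_le_mul_right h1 Nat.card_pos
    haveI hcyc : IsCyclic Q := by
      obtain ⟨k, hk⟩ := IsPGroup.iff_card.1 ((hR.to_subgroup X).to_quotient (Y.subgroupOf X))
      have hk1 : k ≤ 1 := (Nat.pow_le_pow_iff_right hp.out.one_lt).1 (by rw [← hk, pow_one]; exact hQcard)
      interval_cases k
      · haveI : Subsingleton Q := (Nat.card_eq_one_iff_unique.1 (by simpa using hk)).1
        exact isCyclic_of_subsingleton
      · exact isCyclic_of_prime_card (p := p) (by simpa using hk)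
    obtain ⟨g, hg⟩ := IsCyclic.exists_generator (α := Q)
    have hcomm : ∀ f₁ f₂ : MulAut Q, f₁ * f₂ = f₂ * f₁ := by
      intro f₁ f₂
      refine MulEquiv.ext fun v => ?_
      obtain ⟨i, rfl⟩ := Subgroup.mem_zpowers_iff.1 (hg v)
      obtain ⟨j, hj⟩ := Subgroup.mem_zpowers_iff.1 (hg (f₁ g))
      obtain ⟨k, hk⟩ := Subgroup.mem_zpowers_iff.1 (hg (f₂ g))
      rw [map_zpow, map_zpow, MulAut.mul_apply, MulAut.mul_apply, ← hk, map_zpow, ← hj, map_zpow,
        ← hk, ← zpow_mul, ← zpow_mul, ← zpow_mul, ← zpow_mul]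
      congr 1
      ring
    have hpow : ∀ f : MulAut Q, f ^ (p - 1) = 1 := by
      intro f
      obtain ⟨k, hk⟩ := IsPGroup.iff_card.1 ((hR.to_subgroup X).to_quotient (Y.subgroupOf X))
      have hk1 : k ≤ 1 := (Nat.pow_le_pow_iff_right hp.out.one_lt).1 (by rw [← hk, pow_one]; exact hQcard)
      have h0 : Nat.card (MulAut Q) ∣ p - 1 := by
        rw [IsCyclic.card_mulAut, hQ, hk]
        interval_cases k
        · rw [pow_zero, Nat.totient_one]; exact one_dvd _
        · rw [pow_one, Nat.totient_prime hp.out]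
      exact orderOf_dvd_iff_pow_eq_one.1 ((orderOf_dvd_natCard f).trans h0)
    intro a ha x hx
    have h1 : ψ a = 1 := by
      rcases ha with ha | ⟨b, rfl⟩
      · have hle : ⁅(⊤ : Subgroup A), (⊤ : Subgroup A)⁆ ≤ ψ.ker := by
          rw [Subgroup.commutator_le]
          intro u _ w _
          rw [MonoidHom.mem_ker, map_commutatorElement, commutatorElement_eq_one_iff_mul_comm]
          exact hcomm _ _
        exact MonoidHom.mem_ker.1 (hle (by rwa [commutator_def] at ha))
      · rw [map_pow, hpow]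
    have h2 := congrArg (fun f : MulAut Q => f ((⟨x, hx⟩ : X) : Q)) h1
    have h3 : ((⟨x, hx⟩ : X) : Q) = ((restrictAut X (φ a) ⟨x, hx⟩ : X) : Q) := h2.symm
    have h4 := Subgroup.mem_subgroupOf.1 (QuotientGroup.eq.1 h3)
    exact h4
  have hfix : ∀ a : A, Nat.Coprime (orderOf (φ a)) p →
      (a ∈ commutator A ∨ ∃ b, a = b ^ (p - 1)) → φ a = 1 := by
    intro a hcop ha
    refine hfaith _ hcop ?_
    have key : ∀ n : ℕ, ∀ X : Subgroup R, Nat.card X = n → X.Characteristic → X ≤ U →
        ∀ x ∈ X, φ a x = x := by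
      intro n
      induction n using Nat.strong_induction_on with
      | _ n ih =>
        intro X hn hX hXU x hx
        haveI := hX
        by_cases hbot : X = ⊥
        · rw [hbot, Subgroup.mem_bot] at hx
          rw [hx, map_one]
        have hlt := PGroup.commutator_lt_of_ne_bot hR hbot
        refine PGroup.fixed_of_displacement_fixed hR hcop (ih _ ?_ _ rfl inferInstance
          (hlt.le.trans hXU) _ (hfactor X hX hXU a ha x hx))
        rw [← hn]
        exact lt_of_le_of_ne (Subgroup.card_le_of_le hlt.le) fun he =>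
          hlt.ne (Subgroup.eq_of_le_of_card_ge hlt.le he.ge)
    exact key _ U rfl hUchar le_rfl
  refine ⟨?_, fun a hcop => ?_⟩
  · refine isPGroup_of_forall_coprime _ fun a ha hcop => hφ ?_
    rw [map_one]
    exact hfix a (by rwa [orderOf_injective φ hφ]) (Or.inl ha)
  · rw [orderOf_dvd_iff_pow_eq_one]
    refine hφ ?_
    rw [map_one]
    exact hfix _ (by
      rw [orderOf_injective φ hφ]
      exact hcop.coprime_dvd_left (orderOf_pow_dvd _)) (Or.inr ⟨a, rfl⟩)

end Cfsg.Agent.RankTwo
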