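/-
`Good p R` : rank at most two, or some `E_{p^2}` is maximal elementary abelian (the narrow case).

* `good_of_isNarrow`, `good_of_centralizer`, `good_congr`
* `aut_structure` : odd order automorphism groups
-/
import Cfsg.Agent.Lib.RankTwo.Uniserial
import Cfsg.Agent.Lib.PGroup.RankTwo

set_option autoImplicit false

namespace Cfsg.Agent.RankTwo

variable {p : ℕ} [hp : Fact p.Prime]

/-- Rank at most two, or a maximal elementary abelian subgroup of order `p ^ 2`. -/
def Good (p : ℕ) (R : Type*) [Group R] : Prop :=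
  Cfsg.PRankLE p 2 R ∨ ∃ E : Subgroup R, Cfsg.IsElementaryAbelian p E ∧ Nat.card E = p ^ 2 ∧
    ∀ B : Subgroup R, Cfsg.IsElementaryAbelian p B → E ≤ B → B = E

variable {R : Type*} [Group R] [Finite R]

theorem good_of_centralizer (hR : IsPGroup p R) (X : Subgroup R) (hX : Cfsg.IsElementaryAbelian p X)
    (hC : Cfsg.PRankLE p 2 ↥(Subgroup.centralizer (X : Set R))) : Good p R := by
  by_cases hr : Cfsg.PRankLE p 2 R
  · exact Or.inl hr
  · exact Or.inr (exists_maximal_of_centralizer hR hr X hX hC)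

theorem good_of_isNarrow (hR : IsPGroup p R) (h : Cfsg.IsNarrow p R) : Good p R := by
  rcases h with h | ⟨R₀, R₁, h0, hcyc, hinf, hcomm, hsup⟩
  · exact Or.inl h
  have hR0c : IsMulCommutative R₀ := by
    haveI : IsCyclic R₀ := isCyclic_of_prime_card (p := p) h0
    exact IsCyclic.isMulCommutative
  have hX : Cfsg.IsElementaryAbelian p R₀ :=
    ⟨hR0c, fun a ha => orderOf_dvd_iff_pow_eq_one.1 (h0 ▸ Subgroup.orderOf_dvd_natCard R₀ ha)⟩
  refine good_of_centralizer hR R₀ hX ?_
  set C := Subgroup.centralizer (R₀ : Set R) with hC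
  intro B hB hBe
  have hR1C : R₁ ≤ C := le_sup_right.trans hsup.le
  have hR0C : R₀ ≤ C := le_sup_left.trans hsup.le
  haveI : IsCyclic ↥(R₁.subgroupOf C) :=
    isCyclic_of_surjective (Subgroup.subgroupOfEquivOfLe hR1C).symm
      (Subgroup.subgroupOfEquivOfLe hR1C).symm.surjective
  have h1 := PGroup.card_inf_cyclic_le (E := B) (C := R₁.subgroupOf C) inferInstance hp.out.pos hBe
  have h2 : (R₁.subgroupOf C).index ≤ p := by
    have hle : C ≤ R₀ ⊔ R₁ := hsup.ge
    have hn : R₀ ≤ Subgroup.normalizer (R₁ : Set R) :=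
      le_trans (fun a ha => Subgroup.mem_centralizer_iff.2 fun b hb => (hcomm a ha b hb).symm)
        (Subgroup.centralizer_le_normalizer _)
    have hcard : Nat.card C ≤ p * Nat.card R₁ := by
      rw [← hsup, ← h0]
      exact PGroup.card_sup_le hn
    rw [← Subgroup.card_mul_index (R₁.subgroupOf C),
      Nat.card_congr (Subgroup.subgroupOfEquivOfLe hR1C).toEquiv, mul_comm p] at hcard
    exact Nat.le_of_mul_le_mul_left hcard Nat.card_pos
  calc Nat.card B ≤ _ := PGroup.card_le_card_inf_mul_index B (R₁.subgroupOf C)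
    _ ≤ p * p := Nat.mul_le_mul h1 h2
    _ = p ^ 2 := (sq p).symm

omit hp [Finite R] in
theorem good_congr {S : Type*} [Group S] (e : R ≃* S) (h : Good p R) : Good p S := by
  have hel : ∀ {A : Type _} {B : Type _} [Group A] [Group B] (f : A ≃* B) {E : Subgroup A},
      Cfsg.IsElementaryAbelian p E → Cfsg.IsElementaryAbelian p (E.map f.toMonoidHom) := by
    intro A B _ _ f E hE
    haveI := hE.1
    refine ⟨inferInstance, ?_⟩
    rintro _ ⟨x, hx, rfl⟩
    rw [← map_pow, hE.2 x hx, map_one]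
  rcases h with h | ⟨E, hE, hE2, hmax⟩
  · refine Or.inl fun A hA hAe => ?_
    haveI := hA
    have := h (A.map e.symm.toMonoidHom) inferInstance (by
      rintro _ ⟨x, hx, rfl⟩
      rw [← map_pow, hAe x hx, map_one])
    rwa [Subgroup.card_map_of_injective e.symm.injective] at this
  · refine Or.inr ⟨E.map e.toMonoidHom, hel e hE, ?_, fun B hB hle => ?_⟩
    · rw [Subgroup.card_map_of_injective e.injective, hE2]
    · have h1 : E ≤ B.comap e.toMonoidHom := Subgroup.map_le_iff_le_comap.1 hle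
      have h2 : B.comap e.toMonoidHom = E := hmax _ (by
        haveI := hB.1
        refine ⟨⟨⟨fun x y => Subtype.ext (e.injective ?_)⟩⟩, fun x hx => e.injective ?_⟩
        · show e ((x : R) * y) = e ((y : R) * x)
          rw [map_mul, map_mul]
          exact congrArg Subtype.val (mul_comm' (⟨_, x.2⟩ : B) ⟨_, y.2⟩)
        · rw [map_pow, map_one]
          exact hB.2 _ hx) h1
      rw [← h2, Subgroup.map_comap_eq_self_of_surjective e.surjective]

/-- Odd order automorphism groups of good `p`-groups. -/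
theorem aut_structure (hp2 : p ≠ 2) (hR : IsPGroup p R) (h : Good p R)
    {A : Type*} [Group A] [Finite A] (hodd : Odd (Nat.card A)) (φ : A →* MulAut R)
    (hφ : Function.Injective φ) :
    IsPGroup p ↥(commutator A) ∧
      ∀ q : ℕ, q.Prime → q ≠ p → q ∣ Nat.card A → q ∣ p - 1 ∨ q ∣ p + 1 := by
  rcases h with h | ⟨E, hE, hE2, hmax⟩
  · exact commutator_isPGroup hp2 hR h hodd φ hφ
  by_cases hr : Cfsg.PRankLE p 2 R
  · exact commutator_isPGroup hp2 hR hr hodd φ hφ
  obtain ⟨h1, h2⟩ := narrow_aut hp2 hR hr hE hE2 hmax φ hφ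
  refine ⟨h1, fun q hq hqp hd => ?_⟩
  haveI : Fact q.Prime := ⟨hq⟩
  obtain ⟨a, ha⟩ := exists_prime_orderOf_dvd_card' (G := A) q hd
  exact Or.inl (ha ▸ h2 a (by rw [ha]; exact (Nat.coprime_primes hq hp.out).2 hqp))

end Cfsg.Agent.RankTwo
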