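/-
The derived subgroup of an odd order solvable group whose `O_q` are all `Good` (Bender-Glauberman 4.20).

* `commutator_le_fitting`, `hall_of_gt`, `mem_pCore_of_mem_fitting`
-/
import Cfsg.Agent.Lib.RankTwo.Good
import Cfsg.Agent.Lib.Cores.Fitting
import Cfsg.Agent.Lib.Transfer.Criteria
import Cfsg.Agent.Lib.Solvable.Fitting

set_option autoImplicit false

namespace Cfsg.Agent.RankTwo

open scoped commutatorElement

variable {G : Type*} [Group G] [Finite G]

/-- The product of the `O_q(G)`, `q ≠ r`. -/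
def offCore (r : ℕ) (G : Type*) [Group G] : Subgroup G :=
  ⨆ q : {q : Nat.Primes // (q : ℕ) ≠ r}, Cfsg.pCore ((q : Nat.Primes) : ℕ) G

instance offCore_normal (r : ℕ) : (offCore r G).Normal :=
  Subgroup.iSup_normal _

theorem fitting_le (r : ℕ) : Cfsg.fittingSubgroup G ≤ Cfsg.pCore r G ⊔ offCore r G := by
  rw [Cores.fittingSubgroup_eq_iSup_pCore]
  refine iSup_le fun q => ?_
  by_cases h : (q : ℕ) = r
  · exact h ▸ le_sup_left
  · exact le_sup_of_le_right
      (le_iSup (fun q : {q : Nat.Primes // (q : ℕ) ≠ r} => Cfsg.pCore ((q : Nat.Primes) : ℕ) G) ⟨q, h⟩)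

theorem offCore_le_centralizer (r : ℕ) [Fact r.Prime] :
    offCore r G ≤ Subgroup.centralizer (Cfsg.pCore r G : Set G) := by
  refine iSup_le fun q => fun x hx y hy => ?_
  haveI : Fact ((q : Nat.Primes) : ℕ).Prime := ⟨q.1.2⟩
  exact (Cores.pCore_commute q.2 hx hy).eq.symm

theorem not_dvd_card_offCore (r : ℕ) [hr : Fact r.Prime] : ¬ r ∣ Nat.card (offCore r G) := by
  intro hd
  have hle : offCore r G ≤ Cfsg.piCore {s | s.Prime ∧ s ≠ r} G := iSup_le fun q =>
    Cores.le_piCore inferInstance fun s hs hsd => by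
      haveI : Fact ((q : Nat.Primes) : ℕ).Prime := ⟨q.1.2⟩
      obtain ⟨k, hk⟩ := IsPGroup.iff_card.1 (Cores.isPGroup_pCore (G := G) ((q : Nat.Primes) : ℕ))
      rw [hk] at hsd
      rw [(Nat.prime_dvd_prime_iff_eq hs q.1.2).1 (hs.dvd_of_dvd_pow hsd)]
      exact ⟨q.1.2, q.2⟩
  exact (Cores.card_piCore _ hr.out (hd.trans (Subgroup.card_dvd_of_le hle))).2 rfl

/-- `F(G)` splits: some `r`-power of each element lies in the product of the other `O_q`. -/
theorem exists_pow_mem_offCore (r : ℕ) [Fact r.Prime] {x : G} (hx : x ∈ Cfsg.fittingSubgroup G) :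
    ∃ k : ℕ, x ^ r ^ k ∈ offCore r G := by
  obtain ⟨a, ha, b, hb, rfl⟩ := Subgroup.mem_sup_of_normal_left.1 (fitting_le r hx)
  obtain ⟨k, hk⟩ := Cores.isPGroup_pCore (G := G) r ⟨a, ha⟩
  refine ⟨k, ?_⟩
  have hc : Commute a b := offCore_le_centralizer r hb a ha
  rw [hc.mul_pow, show a ^ r ^ k = 1 from congrArg Subtype.val hk, one_mul]
  exact pow_mem hb _

/-- Elements of `r`-power order of `F(G)` lie in `O_r(G)`. -/
theorem mem_pCore_of_mem_fitting (r : ℕ) [hr : Fact r.Prime] {x : G}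
    (hx : x ∈ Cfsg.fittingSubgroup G) {n : ℕ} (hn : x ^ r ^ n = 1) : x ∈ Cfsg.pCore r G := by
  obtain ⟨a, ha, b, hb, rfl⟩ := Subgroup.mem_sup_of_normal_left.1 (fitting_le r hx)
  obtain ⟨k, hk⟩ := Cores.isPGroup_pCore (G := G) r ⟨a, ha⟩
  have hk' : a ^ r ^ k = 1 := congrArg Subtype.val hk
  have hc : Commute a b := offCore_le_centralizer r hb a ha
  have h1 : b ^ r ^ (n + k) = 1 := by
    have h2 : (a * b) ^ r ^ (n + k) = 1 := by rw [pow_add, pow_mul, hn, one_pow]
    rw [hc.mul_pow, pow_add r, mul_comm, pow_mul, hk', one_pow, one_mul] at h2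
    rwa [pow_add, mul_comm (r ^ n)]
  have hb1 : b = 1 := by
    obtain ⟨j, -, hj⟩ := (Nat.dvd_prime_pow hr.out).1 (orderOf_dvd_of_pow_eq_one h1)
    rcases Nat.eq_zero_or_pos j with h | h
    · exact orderOf_eq_one_iff.1 (by rw [hj, h, pow_zero])
    · exact absurd (((dvd_pow_self r h.ne').trans hj.symm.dvd).trans
        (Subgroup.orderOf_dvd_natCard _ hb)) (not_dvd_card_offCore r)
  rw [hb1, mul_one]
  exact ha

variable [Group.IsSolvable G] (hodd : Odd (Nat.card G))
  (hgood : ∀ (q : ℕ) [Fact q.Prime], Good q ↥(Cfsg.pCore q G))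
include hodd hgood

/-- The action on `O_q(G)`. -/
theorem action_facts (q : ℕ) [hq : Fact q.Prime] :
    (∀ x ∈ commutator G, ∃ k : ℕ,
      x ^ q ^ k ∈ Subgroup.centralizer (Cfsg.pCore q G : Set G)) ∧
    ∀ (r : ℕ) (x : G), r.Prime → (∃ k, x ^ r ^ k = 1) → q < r →
      x ∈ Subgroup.centralizer (Cfsg.pCore q G : Set G) := by
  set C := Subgroup.centralizer (Cfsg.pCore q G : Set G)
  rcases eq_or_ne q 2 with hq2 | hq2
  · have hbot : Cfsg.pCore q G = ⊥ := by
      rw [← Subgroup.card_eq_one]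
      obtain ⟨k, hk⟩ := IsPGroup.iff_card.1 (Cores.isPGroup_pCore (G := G) q)
      rcases Nat.eq_zero_or_pos k with h | h
      · rw [hk, h, pow_zero]
      · exfalso
        have h2 := hodd.of_dvd_nat (Subgroup.card_subgroup_dvd_card (Cfsg.pCore q G))
        rw [hk, hq2] at h2
        exact Nat.not_odd_iff_even.2 (Nat.even_pow.2 ⟨even_two, h.ne'⟩) h2
    have htop : ∀ x : G, x ∈ C := fun x y hy => by
      rw [SetLike.mem_coe, hbot, Subgroup.mem_bot] at hy
      rw [hy, one_mul, mul_one]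
    exact ⟨fun x _ => ⟨0, htop _⟩, fun r x _ _ _ => htop x⟩
  set φ : G →* MulAut (Cfsg.pCore q G) := MulAut.conjNormal with hφ
  have hker : φ.ker ≤ C := fun x hx y hy => by
    have h := congrArg (fun a : MulAut (Cfsg.pCore q G) => (a ⟨y, hy⟩ : G)) (MonoidHom.mem_ker.1 hx)
    simp only [hφ, MulAut.conjNormal_apply, MulAut.one_apply] at h
    exact (mul_inv_eq_iff_eq_mul.1 h).symm
  have hstr := aut_structure hq2 (Cores.isPGroup_pCore q G) (hgood q) (A := φ.range)
    (hodd.of_dvd_nat (Subgroup.card_range_dvd φ)) φ.range.subtype φ.range.subtype_injective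
  refine ⟨fun x hx => ?_, fun r x hr ⟨k, hk⟩ hlt => ?_⟩
  · have h4 : (commutator G).map φ.rangeRestrict ≤ commutator φ.range := by
      rw [commutator_def, commutator_def, Subgroup.map_commutator]
      exact Subgroup.commutator_mono le_top le_top
    obtain ⟨k, hk⟩ := hstr.1 ⟨_, h4 (Subgroup.mem_map_of_mem _ hx)⟩
    refine ⟨k, hker ?_⟩
    have h5 := congrArg Subtype.val (congrArg Subtype.val hk)
    rw [MonoidHom.mem_ker, map_pow]
    simpa using h5
  · refine hker (MonoidHom.mem_ker.2 ?_)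
    by_contra hne
    have hd : orderOf (φ.rangeRestrict x) ∣ r ^ k :=
      (orderOf_map_dvd _ x).trans (orderOf_dvd_of_pow_eq_one hk)
    obtain ⟨j, -, hj⟩ := (Nat.dvd_prime_pow hr).1 hd
    have hj0 : j ≠ 0 := fun h => hne (congrArg Subtype.val
      (orderOf_eq_one_iff.1 (by rw [hj, h, pow_zero] : orderOf (φ.rangeRestrict x) = 1)))
    have hdvd : r ∣ Nat.card φ.range :=
      ((dvd_pow_self r hj0).trans hj.symm.dvd).trans (orderOf_dvd_natCard _)
    have hqodd : Odd q := hq.out.odd_of_ne_two hq2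
    have hrodd : Odd r := hodd.of_dvd_nat (hdvd.trans (Subgroup.card_range_dvd φ))
    rw [Nat.odd_iff] at hqodd hrodd
    have := hq.out.two_le
    rcases hstr.2 r hr hlt.ne' hdvd with h | h
    · have := Nat.le_of_dvd (by omega) h
      omega
    · have := Nat.le_of_dvd (by omega) h
      omega

/-- `G' ≤ F(G)`. -/
theorem commutator_le_fitting : commutator G ≤ Cfsg.fittingSubgroup G := by
  intro x hx
  -- it suffices to treat elements of prime power order
  suffices h : ∀ (r : ℕ) [Fact r.Prime], ∀ y ∈ commutator G, (∃ k, y ^ r ^ k = 1) →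
      y ∈ Cfsg.fittingSubgroup G by
    exact Transfer.mem_of_forall_primePow fun r hr y hy ⟨k, hk⟩ => by
      haveI : Fact r.Prime := ⟨hr⟩
      exact h r y (Subgroup.zpowers_le.2 hx hy) ⟨k, hk ▸ pow_orderOf_eq_one y⟩
  intro r hr y hy hy'
  set D : Subgroup G := ⨅ q : {q : Nat.Primes // (q : ℕ) ≠ r},
    Subgroup.centralizer (Cfsg.pCore ((q : Nat.Primes) : ℕ) G : Set G) with hD
  have hDn : D.Normal := Subgroup.normal_iInf_normal fun _ => inferInstance
  set K := commutator G ⊓ D with hK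
  have hKn : K.Normal := inferInstance
  have hKoff : ∀ z ∈ offCore r G, ∀ k ∈ K, z * k = k * z := by
    intro z hz k hk
    have hle : offCore r G ≤ Subgroup.centralizer ({k} : Set G) := iSup_le fun q w hw =>
      Subgroup.mem_centralizer_singleton_iff.2 ((Subgroup.mem_iInf.1 hk.2 q) w hw)
    exact Subgroup.mem_centralizer_singleton_iff.1 (hle hz)
  have hyK : y ∈ K := by
    refine ⟨hy, Subgroup.mem_iInf.2 fun q => ?_⟩
    haveI : Fact ((q : Nat.Primes) : ℕ).Prime := ⟨q.1.2⟩
    obtain ⟨k, hk⟩ := (action_facts hodd hgood ((q : Nat.Primes) : ℕ)).1 y hy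
    obtain ⟨j, hj⟩ := hy'
    have hcop : (orderOf y).Coprime (((q : Nat.Primes) : ℕ) ^ k) :=
      (((Nat.coprime_primes hr.out q.1.2).2 q.2.symm).pow j k).coprime_dvd_left
        (orderOf_dvd_of_pow_eq_one hj)
    obtain ⟨m, hm⟩ := exists_pow_eq_self_of_coprime hcop.symm
    rw [← hm]
    exact pow_mem hk _
  -- `K` is nilpotent
  have hKc : IsPGroup r (K ⧸ Subgroup.center K) := by
    intro k'
    induction k' using QuotientGroup.induction_on with
    | H k =>
      obtain ⟨a, ha⟩ := (action_facts hodd hgood r).1 k k.2.1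
      have hF : (k : G) ^ r ^ a ∈ Cfsg.fittingSubgroup G := by
        refine Solvable.centralizer_fitting_le G ?_
        have hle : Cfsg.fittingSubgroup G ≤ Subgroup.centralizer ({(k : G) ^ r ^ a} : Set G) := by
          refine (fitting_le r).trans (sup_le (fun w hw => ?_) fun w hw => ?_)
          · exact Subgroup.mem_centralizer_singleton_iff.2 (ha w hw)
          · exact Subgroup.mem_centralizer_singleton_iff.2
              (Commute.pow_right (hKoff w hw k k.2) _).eq
        exact fun w hw => Subgroup.mem_centralizer_singleton_iff.1 (hle hw)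
      obtain ⟨b, hb⟩ := exists_pow_mem_offCore r hF
      refine ⟨a + b, ?_⟩
      rw [← QuotientGroup.mk_pow, QuotientGroup.eq_one_iff, Subgroup.mem_center_iff]
      intro w
      refine Subtype.ext ?_
      rw [pow_add, pow_mul]
      exact (hKoff _ hb w w.2).symm
  have hKnil : Group.IsNilpotent K := by
    haveI := hKc.isNilpotent
    exact Subgroup.isNilpotent_of_ker_le_center (QuotientGroup.mk' (Subgroup.center K))
      (by rw [QuotientGroup.ker_mk'])
  exact Cores.le_fittingSubgroup hKn hKnil hyK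

/-- The Hall subgroup for the primes greater than `p`. -/
theorem hall_of_gt (p : ℕ) : Cfsg.IsPiHall {q | q.Prime ∧ p < q}
    (Cfsg.piCore {q | q.Prime ∧ p < q} G) := by
  set π : Set ℕ := {q | q.Prime ∧ p < q} with hπ
  set K := Cfsg.piCore π G with hK
  refine ⟨fun q hq hd => Cores.card_piCore π hq hd, fun r hr hrπ hd => ?_⟩
  haveI : Fact r.Prime := ⟨hr⟩
  -- elements centralizing the small cores
  set V : Subgroup G := ⨅ q : {q : Nat.Primes // (q : ℕ) ≤ p},
    Subgroup.centralizer (Cfsg.pCore ((q : Nat.Primes) : ℕ) G : Set G) with hV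
  have hVn : V.Normal := Subgroup.normal_iInf_normal fun _ => inferInstance
  set f := QuotientGroup.mk' K with hf
  set W := V.map f with hW
  have hWn : W.Normal := hVn.map f (QuotientGroup.mk'_surjective K)
  -- the image of `F(G)` commutes with the image of `V`
  have hFW : (Cfsg.fittingSubgroup G).map f ≤ Subgroup.centralizer (W : Set (G ⧸ K)) := by
    rw [Cores.fittingSubgroup_eq_iSup_pCore, Subgroup.map_iSup]
    refine iSup_le fun q => ?_
    rintro _ ⟨w, hw, rfl⟩ _ ⟨v, hv, rfl⟩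
    by_cases hqp : (q : ℕ) ≤ p
    · rw [← map_mul, ← map_mul, Subgroup.mem_iInf.1 hv ⟨q, hqp⟩ w hw]
    · haveI : Fact (q : ℕ).Prime := ⟨q.2⟩
      have hwK : w ∈ K := Cores.le_piCore (π := π) inferInstance (fun s hs hsd => by
        obtain ⟨k, hk⟩ := IsPGroup.iff_card.1 (Cores.isPGroup_pCore (G := G) (q : ℕ))
        rw [hk] at hsd
        rw [(Nat.prime_dvd_prime_iff_eq hs q.2).1 (hs.dvd_of_dvd_pow hsd)]
        exact ⟨q.2, Nat.lt_of_not_le hqp⟩) hw
      rw [hf, QuotientGroup.mk'_apply, QuotientGroup.mk'_apply, (QuotientGroup.eq_one_iff w).2 hwK,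
        mul_one, one_mul]
  have hWnil : Group.IsNilpotent W := by
    have hab : IsMulCommutative (W ⧸ Subgroup.center W) := by
      refine Subgroup.Normal.quotient_commutative_iff_commutator_le.2 ?_
      rw [commutator_def, Subgroup.commutator_le]
      intro a _ b _
      obtain ⟨v, -, hv⟩ := a.2
      obtain ⟨w, -, hw⟩ := b.2
      rw [Subgroup.mem_center_iff]
      intro c
      refine Subtype.ext ?_
      have h1 : ((⁅a, b⁆ : W) : G ⧸ K) ∈ (Cfsg.fittingSubgroup G).map f := by
        refine ⟨⁅v, w⁆, commutator_le_fitting hodd hgood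
          (Subgroup.commutator_mem_commutator (Subgroup.mem_top v) (Subgroup.mem_top w)), ?_⟩
        rw [map_commutatorElement, hv, hw]
        rfl
      exact hFW h1 c c.2
    letI : CommGroup (W ⧸ Subgroup.center W) :=
      { mul_comm := hab.is_comm.comm }
    exact Subgroup.isNilpotent_of_ker_le_center (QuotientGroup.mk' (Subgroup.center W))
      (by rw [QuotientGroup.ker_mk'])
  have hWF : W ≤ Cfsg.piCore πᶜ (G ⧸ K) := by
    refine (Cores.le_fittingSubgroup hWn hWnil).trans ?_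
    rw [Cores.fittingSubgroup_eq_iSup_pCore]
    refine iSup_le fun q => ?_
    haveI : Fact (q : ℕ).Prime := ⟨q.2⟩
    by_cases hq : (q : ℕ) ∈ π
    · have h0 : Cfsg.pCore (q : ℕ) (G ⧸ K) ≤ Cfsg.piCore π (G ⧸ K) :=
        Cores.le_piCore inferInstance fun s hs hsd => by
          obtain ⟨k, hk⟩ := IsPGroup.iff_card.1 (Cores.isPGroup_pCore (G := G ⧸ K) (q : ℕ))
          rw [hk] at hsd
          rw [(Nat.prime_dvd_prime_iff_eq hs q.2).1 (hs.dvd_of_dvd_pow hsd)]
          exact hq
      exact h0.trans ((Cores.piCore_quotient_self (G := G) π).le.trans bot_le)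
    · refine Cores.le_piCore inferInstance fun s hs hsd => ?_
      obtain ⟨k, hk⟩ := IsPGroup.iff_card.1 (Cores.isPGroup_pCore (G := G ⧸ K) (q : ℕ))
      rw [hk] at hsd
      rw [(Nat.prime_dvd_prime_iff_eq hs q.2).1 (hs.dvd_of_dvd_pow hsd)]
      exact hq
  rw [Subgroup.index_eq_card] at hd
  obtain ⟨x', hx'⟩ := exists_prime_orderOf_dvd_card' (G := G ⧸ K) r hd
  obtain ⟨x, rfl⟩ := QuotientGroup.mk'_surjective K x'
  -- an `r`-element with the same image up to a power prime to `r`
  obtain ⟨e, n, hrn, hn⟩ := Nat.exists_eq_pow_mul_and_not_dvd (orderOf_pos x).ne' r hr.ne_one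
  set y := x ^ n with hy
  have hyr : y ^ r ^ e = 1 := by rw [hy, ← pow_mul, mul_comm, ← hn, pow_orderOf_eq_one]
  have hyV : y ∈ V := Subgroup.mem_iInf.2 fun q => by
    haveI : Fact ((q : Nat.Primes) : ℕ).Prime := ⟨q.1.2⟩
    exact (action_facts hodd hgood ((q : Nat.Primes) : ℕ)).2 r y hr ⟨_, hyr⟩ (lt_of_le_of_lt q.2 hrπ.2)
  have h1 : orderOf (f y) ∣ Nat.card (Cfsg.piCore πᶜ (G ⧸ K)) :=
    Subgroup.orderOf_dvd_natCard _ (hWF (Subgroup.mem_map_of_mem f hyV))
  have h2 : orderOf (f y) = r := by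
    rw [hy, map_pow, orderOf_pow' _ (fun h => hrn (by rw [h]; exact dvd_zero r)), hx']
    rw [(hr.coprime_iff_not_dvd.2 hrn).gcd_eq_one, Nat.div_one]
  rw [h2] at h1
  exact Cores.card_piCore πᶜ hr h1 hrπ

end Cfsg.Agent.RankTwo
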