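/-
Coprime action on metacyclic `p`-groups, `p` odd.

* `isMetacyclic_of_injective`, `isMetacyclic_of_surjective`, `card_le_sq_of_exponent`
* `exists_fixed_coset` : `Aut(R)` fixes a point of a characteristic section above `Φ(R)`
* `metacyclic_coprime` : the decomposition `R = [R, A] C_R(A)`
-/
import Cfsg.Agent.Lib.Metacyclic.Data
import Cfsg.Agent.Lib.RankTwo.Auto
import Cfsg.Agent.Lib.PGroup.Omega
import Cfsg.Agent.Lib.Coprime.Abelian
import Cfsg.Agent.Lib.Coprime.Invariant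

set_option autoImplicit false

namespace Cfsg.Agent.RankTwo

open scoped commutatorElement

variable {p : ℕ} [hp : Fact p.Prime]

omit hp in
theorem isMetacyclic_of_injective {R S : Type*} [Group R] [Group S] (f : R →* S)
    (hf : Function.Injective f) (h : Cfsg.IsMetacyclic S) : Cfsg.IsMetacyclic R := by
  obtain ⟨N, hN, hc, hq⟩ := h
  haveI := hN
  haveI := hc
  haveI := hq
  refine ⟨N.comap f, inferInstance, ?_, ?_⟩
  · exact isCyclic_of_injective (f.subgroupComap N) fun a b hab =>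
      Subtype.ext (hf (congrArg Subtype.val hab))
  · refine isCyclic_of_injective (QuotientGroup.map (N.comap f) N f le_rfl) ?_
    rw [← MonoidHom.ker_eq_bot_iff, eq_bot_iff]
    intro x hx
    induction x using QuotientGroup.induction_on with
    | H y =>
      rw [MonoidHom.mem_ker, QuotientGroup.map_mk, QuotientGroup.eq_one_iff] at hx
      rw [Subgroup.mem_bot, QuotientGroup.eq_one_iff]
      exact hx

omit hp in
theorem isMetacyclic_of_surjective {R S : Type*} [Group R] [Group S] (f : R →* S)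
    (hf : Function.Surjective f) (h : Cfsg.IsMetacyclic R) : Cfsg.IsMetacyclic S := by
  obtain ⟨N, hN, hc, hq⟩ := h
  haveI := hN
  haveI := hc
  haveI := hq
  haveI hn : (N.map f).Normal := hN.map f hf
  refine ⟨N.map f, hn, isCyclic_of_surjective _ (f.subgroupMap_surjective N), ?_⟩
  refine isCyclic_of_surjective (QuotientGroup.map N (N.map f) f (Subgroup.le_comap_map f N)) ?_
  intro y
  induction y using QuotientGroup.induction_on with
  | H z =>
    obtain ⟨x, rfl⟩ := hf z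
    exact ⟨x, rfl⟩

theorem card_le_sq_of_exponent {Q : Type*} [Group Q] [Finite Q] (h : Cfsg.IsMetacyclic Q)
    (he : ∀ x : Q, x ^ p = 1) : Nat.card Q ≤ p ^ 2 := by
  obtain ⟨N, hN, hc, hq⟩ := h
  haveI := hN
  have key : ∀ (X : Type _) [Group X] [Finite X] [IsCyclic X], (∀ x : X, x ^ p = 1) →
      Nat.card X ≤ p := by
    intro X _ _ _ hX
    obtain ⟨g, hg⟩ := IsCyclic.exists_ofOrder_eq_natCard (α := X)
    rw [← hg]
    exact Nat.le_of_dvd hp.out.pos (orderOf_dvd_of_pow_eq_one (hX g))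
  rw [← Subgroup.card_mul_index N, Subgroup.index_eq_card, sq]
  haveI := hc
  haveI := hq
  refine Nat.mul_le_mul (key N fun x => Subtype.ext (he x)) (key (Q ⧸ N) fun x => ?_)
  induction x using QuotientGroup.induction_on with
  | H y => rw [← QuotientGroup.mk_pow, he, QuotientGroup.mk_one]

/-- In a metacyclic `p`-group the Frattini quotient has order at most `p ^ 2`. -/
theorem index_frattini_le {R : Type*} [Group R] [Finite R] (hR : IsPGroup p R)
    (h : Cfsg.IsMetacyclic R) : (frattini R).index ≤ p ^ 2 := by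
  rw [Subgroup.index_eq_card]
  refine card_le_sq_of_exponent (isMetacyclic_of_surjective (QuotientGroup.mk' (frattini R))
    (QuotientGroup.mk'_surjective _) h) fun x => ?_
  induction x using QuotientGroup.induction_on with
  | H y =>
    rw [← QuotientGroup.mk_pow, QuotientGroup.eq_one_iff]
    exact PGroup.pow_mem_frattini hR y

/-- A proper subgroup strictly above the Frattini subgroup when the Frattini index is at most `p²`. -/
theorem le_sup_zpowers_of_index {Q : Type*} [Group Q] [Finite Q] (hQ : IsPGroup p Q)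
    (hi : (frattini Q).index ≤ p ^ 2) {L : Subgroup Q} (hL : L ≠ ⊤) (hΦ : frattini Q ≤ L) {y : Q}
    (hy : y ∈ L) (hy' : y ∉ frattini Q) : L = Subgroup.zpowers y ⊔ frattini Q := by
  have h1 : frattini Q < Subgroup.zpowers y ⊔ frattini Q :=
    lt_of_le_of_ne le_sup_right fun h => hy' (h.ge (Subgroup.mem_sup_left (Subgroup.mem_zpowers y)))
  have h2 := PGroup.mul_card_le_of_lt hQ h1
  have h3 := PGroup.mul_card_le_of_lt hQ (lt_top_iff_ne_top.2 hL)
  rw [Subgroup.card_top, ← Subgroup.card_mul_index (frattini Q)] at h3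
  refine (Subgroup.eq_of_le_of_card_ge (sup_le (Subgroup.zpowers_le.2 hy) hΦ) ?_).symm
  have h4 : p * Nat.card L ≤ p * (p * Nat.card (frattini Q)) :=
    h3.trans (by rw [← mul_assoc, ← sq, mul_comm]; exact Nat.mul_le_mul hi le_rfl)
  exact (Nat.le_of_mul_le_mul_left h4 hp.out.pos).trans h2

/-- In a class two group with `Q' = ⟨z⟩` of order `p` the power maps `x ↦ x ^ p ^ m`, `m ≥ 1`, are
multiplicative. -/
theorem pow_mul_of_small_commutator {Q : Type*} [Group Q] (hp2 : p ≠ 2)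
    (hc : ∀ a b : Q, ⁅a, b⁆ ∈ Subgroup.center Q) (hcp : ∀ a b : Q, ⁅a, b⁆ ^ p = 1) {m : ℕ}
    (hm : 1 ≤ m) (x y : Q) : (x * y) ^ p ^ m = x ^ p ^ m * y ^ p ^ m := by
  have hpc : ∀ y : Q, y ^ p ∈ Subgroup.center Q := fun y => Subgroup.mem_center_iff.2 fun g => by
    have h : ⁅g, y ^ p⁆ = 1 := by
      rw [PGroup.commutator_pow_right (PGroup.commute_of_mem_center (hc g y) y), hcp]
    exact commutatorElement_eq_one_iff_mul_comm.1 h
  induction m, hm using Nat.le_induction with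
  | base =>
    rw [pow_one]
    exact PGroup.mul_pow_classTwo hp.out hp2 hc (hpc y)
  | succ n hn ih =>
    rw [pow_succ, pow_mul, pow_mul, pow_mul, ih]
    have h : Commute (x ^ p ^ n) (y ^ p ^ n) := by
      have h1 : y ^ p ^ n = (y ^ p ^ (n - 1)) ^ p := by
        rw [← pow_mul, ← pow_succ, Nat.sub_add_cancel hn]
      rw [h1]
      exact PGroup.commute_of_mem_center (hpc _) _
    exact h.mul_pow p

/-- `Aut(R)` fixes a nontrivial point of a characteristic section of `R / Φ(R)`. -/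
theorem exists_fixed_coset {R : Type*} [Group R] [Finite R] (hp2 : p ≠ 2) (hR : IsPGroup p R)
    (hm : Cfsg.IsMetacyclic R) (hna : ¬ IsMulCommutative R) :
    ∃ (N : Subgroup R) (y : R), frattini R ≤ N ∧ y ∉ N ∧
      ∀ α : MulAut R, (∀ x ∈ N, α x ∈ N) ∧ y⁻¹ * α y ∈ N := by
  obtain ⟨D⟩ := Metacyclic.exists_data hp2 hR hm
  set z₀ := D.a ^ D.d with hz₀
  have hcomm : commutator R = Subgroup.zpowers z₀ := by
    refine (Subgroup.eq_of_le_of_card_ge (Subgroup.zpowers_le.2 ?_) ?_).symm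
    · have h : ⁅D.b, D.a⁆ = z₀ := by
        rw [commutatorElement_def, D.hconj, pow_succ, mul_assoc, mul_inv_cancel, mul_one]
      rw [← h, commutator_def]
      exact Subgroup.commutator_mem_commutator (Subgroup.mem_top _) (Subgroup.mem_top _)
    · rw [D.card_commutator, Nat.card_zpowers, hz₀, D.hn]
  have hn : D.n ≠ 0 := by
    intro h
    have h0 := D.card_commutator
    rw [h, pow_zero, Subgroup.card_eq_one] at h0
    refine hna ⟨⟨fun a b => ?_⟩⟩
    refine commutatorElement_eq_one_iff_mul_comm.1 (Subgroup.mem_bot.1 (h0 ▸ ?_))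
    rw [commutator_def]
    exact Subgroup.commutator_mem_commutator (Subgroup.mem_top _) (Subgroup.mem_top _)
  set M := Subgroup.zpowers (z₀ ^ p) with hM
  haveI hMc : M.Characteristic := PGroup.characteristic_of_forall_mem fun φ x hx => by
    obtain ⟨k, rfl⟩ := Subgroup.mem_zpowers_iff.1 hx
    have h1 : φ z₀ ∈ commutator R :=
      (PGroup.aut_mem_iff φ z₀).2 (hcomm.ge (Subgroup.mem_zpowers z₀))
    rw [hcomm] at h1
    obtain ⟨i, hi⟩ := Subgroup.mem_zpowers_iff.1 h1
    refine Subgroup.mem_zpowers_iff.2 ⟨i * k, ?_⟩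
    rw [map_zpow, map_pow, ← hi, ← zpow_natCast z₀ p, ← zpow_natCast (z₀ ^ i) p, ← zpow_mul,
      ← zpow_mul, ← zpow_mul]
    congr 1
    ring
  set f := QuotientGroup.mk' M with hf
  have hfs : Function.Surjective f := QuotientGroup.mk'_surjective M
  set z : R ⧸ M := f z₀ with hz
  have hQ : IsPGroup p (R ⧸ M) := hR.to_quotient M
  have hz1 : z ≠ 1 := by
    intro h
    obtain ⟨k, hk⟩ := Subgroup.mem_zpowers_iff.1 ((QuotientGroup.eq_one_iff z₀).1 h)
    rw [← zpow_natCast z₀ p, ← zpow_mul] at hk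
    nth_rewrite 2 [← zpow_one z₀] at hk
    rw [zpow_eq_zpow_iff_modEq, hz₀, D.hn] at hk
    have hd := (Int.natCast_dvd_natCast.2 (dvd_pow_self p hn)).trans hk.dvd
    have h1 : (p : ℤ) ∣ 1 := by
      have := dvd_add hd (dvd_mul_right (p : ℤ) k)
      simpa using this
    exact hp.out.not_dvd_one (Int.natCast_dvd_natCast.1 (by simpa using h1))
  have hzp : z ^ p = 1 := by
    rw [hz, ← map_pow]
    exact (QuotientGroup.eq_one_iff _).2 (Subgroup.mem_zpowers _)
  have hder : ∀ a b : R ⧸ M, ⁅a, b⁆ ∈ Subgroup.zpowers z := by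
    intro a b
    obtain ⟨a, rfl⟩ := hfs a
    obtain ⟨b, rfl⟩ := hfs b
    have h : ⁅a, b⁆ ∈ commutator R := by
      rw [commutator_def]
      exact Subgroup.commutator_mem_commutator (Subgroup.mem_top _) (Subgroup.mem_top _)
    rw [hcomm] at h
    obtain ⟨i, hi⟩ := Subgroup.mem_zpowers_iff.1 h
    rw [← map_commutatorElement, ← hi, map_zpow]
    exact Subgroup.zpow_mem_zpowers z i
  have hzord : orderOf z = p := orderOf_eq_prime hzp hz1
  have hzn : (Subgroup.zpowers z).Normal := ⟨fun x hx g => by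
    have h := mul_mem (hder g x) hx
    simpa [commutatorElement_def] using h⟩
  have hzc : z ∈ Subgroup.center (R ⧸ M) := by
    have := PGroup.le_center_of_card_eq hQ (N := Subgroup.zpowers z) (by rw [Nat.card_zpowers, hzord])
    exact this (Subgroup.mem_zpowers z)
  have hc : ∀ a b : R ⧸ M, ⁅a, b⁆ ∈ Subgroup.center (R ⧸ M) := fun a b =>
    Subgroup.zpowers_le.2 hzc (hder a b)
  have hcp : ∀ a b : R ⧸ M, ⁅a, b⁆ ^ p = 1 := fun a b => by
    obtain ⟨i, hi⟩ := Subgroup.mem_zpowers_iff.1 (hder a b)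
    rw [← hi, ← zpow_natCast, ← zpow_mul, mul_comm, zpow_mul, zpow_natCast, hzp, one_zpow]
  have hmul := fun {m : ℕ} (hm : 1 ≤ m) => pow_mul_of_small_commutator hp2 hc hcp hm
  -- Frattini subgroup
  have hΦc : frattini (R ⧸ M) ≤ Subgroup.center (R ⧸ M) := by
    rw [PGroup.frattini_eq hQ]
    refine sup_le (by rw [commutator_def, Subgroup.commutator_le]; exact fun a _ b _ => hc a b) ?_
    rw [Subgroup.closure_le]
    rintro _ ⟨x, rfl⟩
    exact Subgroup.mem_center_iff.2 fun g => commutatorElement_eq_one_iff_mul_comm.1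
      (by
        show ⁅g, x ^ p⁆ = 1
        rw [PGroup.commutator_pow_right (PGroup.commute_of_mem_center (hc g x) x), hcp])
  -- the largest power map reaching `z`
  obtain ⟨m, hm1, ⟨x₀, hx₀⟩, hmax⟩ : ∃ m, 1 ≤ m ∧ (∃ x : R ⧸ M, x ^ p ^ m = z) ∧
      ¬ ∃ x : R ⧸ M, x ^ p ^ (m + 1) = z := by
    by_contra hno
    push Not at hno
    have key : ∀ m, 1 ≤ m → ∃ x : R ⧸ M, x ^ p ^ m = z := by
      intro m hm
      induction m, hm using Nat.le_induction with
      | base =>
        obtain ⟨d', hd'⟩ := D.hd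
        exact ⟨f (D.a ^ d'), by rw [pow_one, ← map_pow, ← pow_mul, mul_comm, ← hd']⟩
      | succ n hn' ih => exact hno n hn' ih
    obtain ⟨e, he⟩ := IsPGroup.iff_card.1 hQ
    obtain ⟨x, hx⟩ := key (e + 1) (by omega)
    refine hz1 ?_
    rw [← hx, pow_succ, pow_mul, ← he, pow_card_eq_one', one_pow]
  have hΦpow : ∀ w ∈ frattini (R ⧸ M), w ^ p ^ m ∈ Subgroup.zpowers z → w ^ p ^ m = 1 := by
    intro w hw hwz
    have hform : ∃ u : R ⧸ M, w ^ p ^ m = u ^ p ^ (m + 1) := by
      rw [PGroup.frattini_eq hQ] at hw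
      obtain ⟨a, ha, b, hb, rfl⟩ := Subgroup.mem_sup_of_normal_left.1 hw
      have ha' : a ^ p ^ m = 1 := by
        have h : a ∈ Subgroup.zpowers z := by
          rw [commutator_def] at ha
          exact (Subgroup.commutator_le (H₁ := (⊤ : Subgroup (R ⧸ M)))
            (H₂ := ⊤)).2 (fun a _ b _ => hder a b) ha
        obtain ⟨i, rfl⟩ := Subgroup.mem_zpowers_iff.1 h
        rw [← zpow_natCast, ← zpow_mul, mul_comm, zpow_mul, zpow_natCast,
          show p ^ m = p * p ^ (m - 1) by rw [← pow_succ', Nat.sub_add_cancel hm1], pow_mul, hzp,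
          one_pow, one_zpow]
      rw [hmul hm1, ha', one_mul]
      clear hwz ha' hw ha
      induction hb using Subgroup.closure_induction with
      | mem x hx =>
        obtain ⟨u, rfl⟩ := hx
        exact ⟨u, by rw [← pow_mul, pow_succ']⟩
      | one => exact ⟨1, by rw [one_pow, one_pow]⟩
      | mul x y _ _ hx hy =>
        obtain ⟨u, hu⟩ := hx
        obtain ⟨v, hv⟩ := hy
        exact ⟨u * v, by rw [hmul hm1, hu, hv, hmul (by omega)]⟩
      | inv x _ hx =>
        obtain ⟨u, hu⟩ := hx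
        exact ⟨u⁻¹, by rw [inv_pow, hu, inv_pow]⟩
    obtain ⟨u, hu⟩ := hform
    obtain ⟨i, hi⟩ := Subgroup.mem_zpowers_iff.1 hwz
    by_contra hne
    -- `z` would be a higher power
    have hcop : (orderOf z).Coprime i.natAbs := by
      rw [hzord, hp.out.coprime_iff_not_dvd]
      intro hd
      obtain ⟨c, hc'⟩ := Int.natCast_dvd.2 hd
      exact hne (by rw [← hi, hc', zpow_mul, zpow_natCast, hzp, one_zpow])
    have hmem : z ∈ Subgroup.zpowers (u ^ p ^ (m + 1)) := by
      rw [← hu, ← hi]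
      have h1 : z ^ i.natAbs ∈ Subgroup.zpowers (z ^ i) := by
        rcases Int.natAbs_eq i with h | h
        · refine ⟨1, ?_⟩
          show (z ^ i) ^ (1 : ℤ) = z ^ i.natAbs
          rw [zpow_one, h, zpow_natCast, Int.natAbs_natCast]
        · refine ⟨-1, ?_⟩
          show (z ^ i) ^ (-1 : ℤ) = z ^ i.natAbs
          rw [zpow_neg_one, h, zpow_neg, zpow_natCast, inv_inv, Int.natAbs_neg, Int.natAbs_natCast]
      obtain ⟨s, hs⟩ := exists_pow_eq_self_of_coprime hcop.symm
      have h2 := pow_mem h1 s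
      rwa [hs] at h2
    obtain ⟨s, hs⟩ := Subgroup.mem_zpowers_iff.1 hmem
    exact hmax ⟨u ^ s, by rw [← hs, ← zpow_natCast, ← zpow_natCast u, ← zpow_mul, ← zpow_mul,
      mul_comm]⟩
  have hx₀Φ : x₀ ∉ frattini (R ⧸ M) := fun h =>
    hz1 (by rw [← hx₀]; exact hΦpow _ h (by rw [hx₀]; exact Subgroup.mem_zpowers z))
  -- a generating pair does not commute
  have hgen : ∀ a b : R ⧸ M, Subgroup.zpowers a ⊔ Subgroup.zpowers b ⊔ frattini (R ⧸ M) = ⊤ →
      ⁅a, b⁆ ≠ 1 := by
    intro a b hab hcab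
    have htop := PGroup.eq_top_of_sup_frattini hab
    have hab' : Commute a b := commutatorElement_eq_one_iff_commute.1 hcab
    have hC : ∀ g : R ⧸ M, g ∈ Subgroup.center (R ⧸ M) := by
      have h1 : Subgroup.zpowers a ⊔ Subgroup.zpowers b ≤ Subgroup.centralizer {a, b} := by
        refine sup_le (Subgroup.zpowers_le.2 ?_) (Subgroup.zpowers_le.2 ?_) <;>
          rintro x (rfl | rfl)
        · rfl
        · exact hab'.symm.eq
        · exact hab'.eq
        · rfl
      intro g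
      rw [Subgroup.mem_center_iff]
      intro h
      have hg : g ∈ Subgroup.centralizer ({a, b} : Set (R ⧸ M)) := h1 (htop ▸ Subgroup.mem_top g)
      have hle : Subgroup.zpowers a ⊔ Subgroup.zpowers b ≤ Subgroup.centralizer {g} :=
        sup_le (Subgroup.zpowers_le.2 (Subgroup.mem_centralizer_singleton_iff.2
            (hg a (Set.mem_insert _ _))))
          (Subgroup.zpowers_le.2 (Subgroup.mem_centralizer_singleton_iff.2
            (hg b (Set.mem_insert_of_mem _ rfl))))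
      exact Subgroup.mem_centralizer_singleton_iff.1 (hle (htop ▸ Subgroup.mem_top h))
    refine hz1 ?_
    have h : z = ⁅f D.b, f D.a⁆ := by
      rw [← map_commutatorElement, hz, hz₀, commutatorElement_def, D.hconj, pow_succ, mul_assoc,
        mul_inv_cancel, mul_one]
    rw [h, PGroup.commutator_eq_one_of_mem_center (hC _)]
  -- the two cases
  have hidx : (frattini (R ⧸ M)).index ≤ p ^ 2 :=
    index_frattini_le hQ (isMetacyclic_of_surjective f hfs hm)
  let P : Subgroup (R ⧸ M) :=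
    { carrier := {x | x ^ p ^ m ∈ Subgroup.zpowers z}
      mul_mem' := fun {a b} ha hb => by
        show (a * b) ^ p ^ m ∈ Subgroup.zpowers z
        rw [hmul hm1]
        exact mul_mem ha hb
      one_mem' := by
        show (1 : R ⧸ M) ^ p ^ m ∈ Subgroup.zpowers z
        rw [one_pow]
        exact one_mem _
      inv_mem' := fun {a} ha => by
        show a⁻¹ ^ p ^ m ∈ Subgroup.zpowers z
        rw [inv_pow]
        exact inv_mem ha }
  let K : Subgroup (R ⧸ M) :=
    { carrier := {x | x ^ p ^ m = 1}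
      mul_mem' := fun {a b} ha hb => by
        show (a * b) ^ p ^ m = 1
        rw [hmul hm1, show a ^ p ^ m = 1 from ha, show b ^ p ^ m = 1 from hb, one_mul]
      one_mem' := one_pow _
      inv_mem' := fun {a} ha => by
        show a⁻¹ ^ p ^ m = 1
        rw [inv_pow, show a ^ p ^ m = 1 from ha, inv_one] }
  have hPx : x₀ ∈ P := by
    show x₀ ^ p ^ m ∈ Subgroup.zpowers z
    rw [hx₀]
    exact Subgroup.mem_zpowers z
  -- reduce to the quotient
  suffices H : ∃ (N : Subgroup (R ⧸ M)) (y : R ⧸ M), frattini (R ⧸ M) ≤ N ∧ y ∉ N ∧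
      ∀ β : MulAut (R ⧸ M), β z ∈ Subgroup.zpowers z → (∀ x ∈ N, β x ∈ N) ∧ y⁻¹ * β y ∈ N by
    obtain ⟨N, y, hΦN, hyN, hβ⟩ := H
    obtain ⟨y', rfl⟩ := hfs y
    refine ⟨N.comap f, y', ?_, hyN, fun α => ?_⟩
    · rw [← Subgroup.map_le_iff_le_comap, PGroup.frattini_map hR hfs]
      exact hΦN
    · set β := quotientAut M α with hβdef
      have hcomp : ∀ x, β (f x) = f (α x) := fun x => rfl
      have hβz : β z ∈ Subgroup.zpowers z := by
        have h1 : α z₀ ∈ commutator R :=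
          (PGroup.aut_mem_iff α z₀).2 (hcomm.ge (Subgroup.mem_zpowers z₀))
        rw [hcomm] at h1
        obtain ⟨i, hi⟩ := Subgroup.mem_zpowers_iff.1 h1
        rw [hz, hcomp, ← hi, map_zpow]
        exact Subgroup.zpow_mem_zpowers _ _
      obtain ⟨h1, h2⟩ := hβ β hβz
      refine ⟨fun x hx => ?_, ?_⟩
      · show f (α x) ∈ N
        rw [← hcomp]
        exact h1 _ hx
      · show f (y'⁻¹ * α y') ∈ N
        rw [map_mul, map_inv, ← hcomp]
        exact h2
  have hzexp : ∀ {s t : ℕ}, z ^ s = z ^ t → (s : ZMod p) = t := fun {s t} h => by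
    rw [pow_eq_pow_iff_modEq, hzord] at h
    exact (ZMod.natCast_eq_natCast_iff _ _ _).2 h
  -- exponents of a pair
  have hpair : ∀ (a b : R ⧸ M), ⁅a, b⁆ ≠ 1 → ∀ (β : MulAut (R ⧸ M)) (i j δ k : ℕ) (w w' : R ⧸ M),
      β z = z ^ δ → z ^ δ = z ^ i → w ∈ frattini (R ⧸ M) → w' ∈ frattini (R ⧸ M) →
      β a = a ^ i * w → β b = b ^ j * a ^ k * w' → (j : ZMod p) = 1 := by
    intro a b hab β i j δ k w w' hδ hδi hw hw' ha hb
    obtain ⟨t, ht⟩ := Subgroup.mem_zpowers_iff.1 (hder a b)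
    have hβc : β ⁅a, b⁆ = ⁅a, b⁆ ^ δ := by
      rw [← ht, map_zpow, hδ, ← zpow_natCast, ← zpow_natCast, ← zpow_mul, ← zpow_mul, mul_comm]
    have hbil : ⁅a ^ i * w, b ^ j * a ^ k * w'⁆ = ⁅a, b⁆ ^ (i * j) := by
      have e1 : ∀ X : R ⧸ M, ⁅a ^ i * w, X⁆ = ⁅a ^ i, X⁆ := fun X => by
        rw [PGroup.commutator_mul_left (by
            rw [PGroup.commutator_eq_one_of_mem_center (hΦc hw)]; exact Commute.one_right _),
          PGroup.commutator_eq_one_of_mem_center (hΦc hw), one_mul]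
      have e2 : ⁅a ^ i, b ^ j * a ^ k * w'⁆ = ⁅a ^ i, b ^ j * a ^ k⁆ := by
        have h : ⁅a ^ i, w'⁆ = 1 :=
          commutatorElement_eq_one_iff_commute.2 (PGroup.commute_of_mem_center (hΦc hw') _)
        rw [PGroup.commutator_mul_right (by rw [h]; exact Commute.one_right _), h, mul_one]
      have e3 : ⁅a ^ i, b ^ j * a ^ k⁆ = ⁅a ^ i, b ^ j⁆ := by
        have h : ⁅a ^ i, a ^ k⁆ = 1 :=
          commutatorElement_eq_one_iff_commute.2 (Commute.pow_pow (Commute.refl a) _ _)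
        rw [PGroup.commutator_mul_right (by rw [h]; exact Commute.one_right _), h, mul_one]
      rw [e1, e2, e3, PGroup.commutator_pow_left (PGroup.commute_of_mem_center (hc _ _) _),
        PGroup.commutator_pow_right (PGroup.commute_of_mem_center (hc _ _) _), ← pow_mul, mul_comm]
    have h1 : ⁅a, b⁆ ^ δ = ⁅a, b⁆ ^ (i * j) := by
      rw [← hβc, ← hbil, ← ha, ← hb, map_commutatorElement]
    have hab1 : orderOf ⁅a, b⁆ = p := orderOf_eq_prime (hcp a b) hab
    rw [pow_eq_pow_iff_modEq, hab1] at h1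
    have h2 := (ZMod.natCast_eq_natCast_iff _ _ _).2 h1
    rw [hzexp hδi, Nat.cast_mul] at h2
    have hi0 : (i : ZMod p) ≠ 0 := by
      intro h0
      rw [ZMod.natCast_eq_zero_iff] at h0
      obtain ⟨c, rfl⟩ := h0
      rw [pow_mul, hzp, one_pow] at hδi
      rw [hδi] at hδ
      exact hz1 (β.injective (hδ.trans (map_one β).symm))
    exact (mul_eq_left₀ hi0).1 h2.symm
  have hzexists : ∀ β : MulAut (R ⧸ M), β z ∈ Subgroup.zpowers z → ∃ δ : ℕ, β z = z ^ δ :=
    fun β h => by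
      obtain ⟨δ, hδ⟩ := (mem_powers_iff_mem_zpowers).2 h
      exact ⟨δ, hδ.symm⟩
  -- `j ≡ 1` means fixed modulo the Frattini subgroup
  have hfix : ∀ {L : Subgroup (R ⧸ M)}, frattini (R ⧸ M) ≤ L → ∀ {b : R ⧸ M} {j : ℕ},
      (j : ZMod p) = 1 → b⁻¹ * b ^ j ∈ L := by
    intro L hL b j hj
    rw [← Nat.cast_one, ZMod.natCast_eq_natCast_iff] at hj
    have hj' : j = p * (j / p) + 1 := by
      have h : j % p = 1 := by
        have h' : j % p = 1 % p := hj
        rwa [Nat.one_mod_eq_one.2 hp.out.ne_one] at h'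
      conv_lhs => rw [← Nat.div_add_mod j p, h]
    rw [hj', pow_succ', inv_mul_cancel_left, pow_mul]
    exact pow_mem (hL (PGroup.pow_mem_frattini hQ b)) _
  have hdecomp : ∀ {b x : R ⧸ M} {S : Subgroup (R ⧸ M)}, S.Normal →
      x ∈ Subgroup.zpowers b ⊔ S → ∃ j : ℕ, ∃ w ∈ S, x = b ^ j * w := by
    intro b x S hS hx
    obtain ⟨u, hu, w, hw, rfl⟩ := Subgroup.mem_sup_of_normal_right.1 hx
    obtain ⟨j, rfl⟩ := (mem_powers_iff_mem_zpowers).2 hu
    exact ⟨j, w, hw, rfl⟩
  set Φ := frattini (R ⧸ M) with hΦ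
  have hΦn : Φ.Normal := inferInstance
  by_cases hS : P ⊔ Φ = ⊤
  · -- the kernel of the power map gives the invariant line
    have hKx : Subgroup.zpowers x₀ ⊔ (K ⊔ Φ) = ⊤ := by
      refine eq_top_iff.2 (hS.ge.trans (sup_le (fun x hx => ?_) (le_sup_of_le_right le_sup_right)))
      obtain ⟨t, ht⟩ := Subgroup.mem_zpowers_iff.1 (show x ^ p ^ m ∈ Subgroup.zpowers z from hx)
      have hk : x₀ ^ (-t) * x ∈ K := by
        show (x₀ ^ (-t) * x) ^ p ^ m = 1
        rw [hmul hm1, ← ht, ← zpow_natCast, ← zpow_mul, mul_comm, zpow_mul, zpow_natCast, hx₀,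
          zpow_neg, inv_mul_cancel]
      have := Subgroup.mul_mem_sup (Subgroup.zpow_mem_zpowers x₀ t)
        (Subgroup.mem_sup_left (T := Φ) hk)
      rwa [zpow_neg, mul_inv_cancel_left] at this
    obtain ⟨y, hyK, hyΦ⟩ : ∃ y, y ∈ K ∧ y ∉ Φ := by
      by_contra hno
      push Not at hno
      have hsup : Subgroup.zpowers x₀ ⊔ Φ = ⊤ := by
        rw [← hKx, (sup_eq_right.2 hno : K ⊔ Φ = Φ)]
      have h1 : Subgroup.zpowers x₀ ⊔ Subgroup.zpowers x₀ ⊔ Φ = ⊤ := by rw [sup_idem, hsup]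
      exact hgen x₀ x₀ h1 (commutatorElement_self x₀)
    have hx₀K : x₀ ∉ K ⊔ Φ := by
      intro h
      obtain ⟨k, hk, w, hw, hkw⟩ := Subgroup.mem_sup_of_normal_right.1 h
      have e : z = w ^ p ^ m := by
        rw [← hx₀, ← hkw, hmul hm1, show k ^ p ^ m = 1 from hk, one_mul]
      exact hz1 (e.trans (hΦpow w hw (e ▸ Subgroup.mem_zpowers z)))
    have hKΦ : K ⊔ Φ = Subgroup.zpowers y ⊔ Φ :=
      le_sup_zpowers_of_index hQ hidx (fun h => hx₀K (by rw [h]; exact Subgroup.mem_top _)) le_sup_right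
        (Subgroup.mem_sup_left hyK) hyΦ
    refine ⟨Φ, y, le_rfl, hyΦ, fun β hβ => ⟨fun x hx => (PGroup.aut_mem_iff β x).2 hx, ?_⟩⟩
    obtain ⟨δ, hδ⟩ := hzexists β hβ
    have hy2 : β y ∈ K ⊔ Φ := Subgroup.mem_sup_left (show β y ^ p ^ m = 1 by
      rw [← map_pow, show y ^ p ^ m = 1 from hyK, map_one])
    rw [hKΦ] at hy2
    obtain ⟨j, w', hw', hy2⟩ := hdecomp hΦn hy2
    have hKn : (K ⊔ Φ).Normal := Subgroup.Normal.of_commutator_le (G := R ⧸ M) (H := K ⊔ Φ)
      ((PGroup.commutator_le_frattini hQ).trans le_sup_right)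
    have hx3 : β x₀ ∈ Subgroup.zpowers x₀ ⊔ (K ⊔ Φ) := hKx ▸ Subgroup.mem_top _
    obtain ⟨i, v, hv, hx3⟩ := hdecomp hKn hx3
    have hv' : v ^ p ^ m = 1 := by
      obtain ⟨k, hk, w₁, hw₁, hkw⟩ := Subgroup.mem_sup_of_normal_right.1 hv
      have e : β (x₀ ^ p ^ m) = (x₀ ^ p ^ m) ^ i * w₁ ^ p ^ m := by
        rw [map_pow, hx3, ← hkw, hmul hm1, hmul hm1, show k ^ p ^ m = 1 from hk, one_mul, ← pow_mul,
          ← pow_mul, mul_comm]
      rw [hx₀, hδ] at e
      have hwz : w₁ ^ p ^ m ∈ Subgroup.zpowers z := by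
        have h := mul_mem (inv_mem (pow_mem (Subgroup.mem_zpowers z) i))
          (pow_mem (Subgroup.mem_zpowers z) δ)
        rwa [e, inv_mul_cancel_left] at h
      rw [← hkw, hmul hm1, show k ^ p ^ m = 1 from hk, one_mul]
      exact hΦpow w₁ hw₁ hwz
    have hδi : z ^ δ = z ^ i := by
      have e : β (x₀ ^ p ^ m) = (x₀ ^ p ^ m) ^ i := by
        rw [map_pow, hx3, hmul hm1, hv', mul_one, ← pow_mul, ← pow_mul, mul_comm]
      rwa [hx₀, hδ] at e
    have hcne : ⁅x₀, y⁆ ≠ 1 := hgen x₀ y (by rw [sup_assoc, ← hKΦ, hKx])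
    -- `v = y ^ k * w`
    have hv2 : v ∈ Subgroup.zpowers y ⊔ Φ := hKΦ ▸ hv
    obtain ⟨k, w₂, hw₂, rfl⟩ := hdecomp hΦn hv2
    have hj : (j : ZMod p) = 1 := by
      obtain ⟨t, ht⟩ := Subgroup.mem_zpowers_iff.1 (hder x₀ y)
      have hβc : β ⁅x₀, y⁆ = ⁅x₀, y⁆ ^ δ := by
        rw [← ht, map_zpow, hδ, ← zpow_natCast, ← zpow_natCast, ← zpow_mul, ← zpow_mul, mul_comm]
      have e1 : ∀ X : R ⧸ M, ∀ a : R ⧸ M, ⁅a * w₂, X⁆ = ⁅a, X⁆ := fun X a => by
        rw [PGroup.commutator_mul_left (by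
            rw [PGroup.commutator_eq_one_of_mem_center (hΦc hw₂)]; exact Commute.one_right _),
          PGroup.commutator_eq_one_of_mem_center (hΦc hw₂), one_mul]
      have hbil : ⁅x₀ ^ i * (y ^ k * w₂), y ^ j * w'⁆ = ⁅x₀, y⁆ ^ (i * j) := by
        have h : ∀ X : R ⧸ M, ⁅X, w'⁆ = 1 := fun X =>
          commutatorElement_eq_one_iff_commute.2 (PGroup.commute_of_mem_center (hΦc hw') _)
        rw [← mul_assoc, e1, PGroup.commutator_mul_right (by rw [h]; exact Commute.one_right _), h,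
          mul_one, PGroup.commutator_mul_left (PGroup.commute_of_mem_center (hc _ _) _),
          commutatorElement_eq_one_iff_commute.2 (Commute.pow_pow (Commute.refl y) k j), one_mul,
          PGroup.commutator_pow_left (PGroup.commute_of_mem_center (hc _ _) _),
          PGroup.commutator_pow_right (PGroup.commute_of_mem_center (hc _ _) _), ← pow_mul, mul_comm]
      have h1 : ⁅x₀, y⁆ ^ δ = ⁅x₀, y⁆ ^ (i * j) := by
        rw [← hβc, ← hbil, ← hx3, ← hy2, map_commutatorElement]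
      rw [pow_eq_pow_iff_modEq, orderOf_eq_prime (hcp x₀ y) hcne] at h1
      have h2 := (ZMod.natCast_eq_natCast_iff _ _ _).2 h1
      rw [hzexp hδi, Nat.cast_mul] at h2
      have hi0 : (i : ZMod p) ≠ 0 := by
        intro h0
        rw [ZMod.natCast_eq_zero_iff] at h0
        obtain ⟨c, rfl⟩ := h0
        rw [pow_mul, hzp, one_pow] at hδi
        rw [hδi] at hδ
        exact hz1 (β.injective (hδ.trans (map_one β).symm))
      exact (mul_eq_left₀ hi0).1 h2.symm
    rw [hy2, ← mul_assoc]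
    exact mul_mem (hfix le_rfl hj) hw'
  · -- the preimage of `⟨z⟩` gives the invariant line
    obtain ⟨y, -, hyS⟩ := SetLike.exists_of_lt (lt_top_iff_ne_top.2 hS)
    have hPΦ : P ⊔ Φ = Subgroup.zpowers x₀ ⊔ Φ :=
      le_sup_zpowers_of_index hQ hidx hS le_sup_right (Subgroup.mem_sup_left hPx) hx₀Φ
    have hSn : (P ⊔ Φ).Normal := Subgroup.Normal.of_commutator_le (G := R ⧸ M) (H := P ⊔ Φ)
      ((PGroup.commutator_le_frattini hQ).trans le_sup_right)
    have htop : Subgroup.zpowers y ⊔ (P ⊔ Φ) = ⊤ := by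
      by_contra hne
      have h1 := le_sup_zpowers_of_index hQ hidx hne (le_sup_of_le_right le_sup_right)
        (Subgroup.mem_sup_right (Subgroup.mem_sup_left hPx)) hx₀Φ
      exact hyS (hPΦ ▸ h1.le (Subgroup.mem_sup_left (Subgroup.mem_zpowers y)))
    refine ⟨P ⊔ Φ, y, le_sup_right, hyS, fun β hβ => ?_⟩
    obtain ⟨δ, hδ⟩ := hzexists β hβ
    have hβP : ∀ x ∈ P, β x ∈ P := fun x hx => by
      obtain ⟨t, ht⟩ := Subgroup.mem_zpowers_iff.1 (show x ^ p ^ m ∈ Subgroup.zpowers z from hx)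
      show β x ^ p ^ m ∈ Subgroup.zpowers z
      rw [← map_pow, ← ht, map_zpow]
      exact Subgroup.zpow_mem _ hβ t
    have hmap : P ⊔ Φ ≤ (P ⊔ Φ).comap β.toMonoidHom := sup_le
      (fun x hx => Subgroup.mem_sup_left (hβP x hx))
      fun x hx => Subgroup.mem_sup_right ((PGroup.aut_mem_iff β x).2 hx)
    refine ⟨fun x hx => hmap hx, ?_⟩
    have hx2 : β x₀ ∈ Subgroup.zpowers x₀ ⊔ Φ := hPΦ ▸ Subgroup.mem_sup_left (hβP x₀ hPx)
    obtain ⟨i, w, hw, hx2⟩ := hdecomp hΦn hx2
    have hy2 : β y ∈ Subgroup.zpowers y ⊔ (P ⊔ Φ) := htop ▸ Subgroup.mem_top _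
    obtain ⟨j, v, hv, hy2⟩ := hdecomp hSn hy2
    obtain ⟨k, w', hw', hv2⟩ := hdecomp hΦn (hPΦ ▸ hv : v ∈ Subgroup.zpowers x₀ ⊔ Φ)
    have hδi : z ^ δ = z ^ i := by
      have e : β (x₀ ^ p ^ m) = (x₀ ^ p ^ m) ^ i * w ^ p ^ m := by
        rw [map_pow, hx2, hmul hm1, ← pow_mul, ← pow_mul, mul_comm]
      rw [hx₀, hδ] at e
      have hwz : w ^ p ^ m ∈ Subgroup.zpowers z := by
        have h := mul_mem (inv_mem (pow_mem (Subgroup.mem_zpowers z) i))
          (pow_mem (Subgroup.mem_zpowers z) δ)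
        rwa [e, inv_mul_cancel_left] at h
      rw [hΦpow w hw hwz, mul_one] at e
      exact e
    have hcne : ⁅x₀, y⁆ ≠ 1 := hgen x₀ y (by
      rw [sup_comm (Subgroup.zpowers x₀), sup_assoc, ← hPΦ, htop])
    have hj := hpair x₀ y hcne β i j δ k w w' hδ hδi hw hw' hx2 (by rw [hy2, hv2, mul_assoc])
    rw [hy2, ← mul_assoc]
    exact mul_mem (hfix le_sup_right hj) hv

end Cfsg.Agent.RankTwo
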