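/-
Coprime action on a metacyclic `p`-subgroup, `p` odd.

* `mem_frattini_of_fixed`, `not_fixed_le_frattini`, `metacyclic_coprime`
-/
import Cfsg.Agent.Lib.RankTwo.Metacyclic
import Cfsg.Agent.Lib.Cores.Basic
import Cfsg.Agent.Lib.Coprime.PQ

set_option autoImplicit false

namespace Cfsg.Agent.RankTwo

open scoped commutatorElement

variable {G : Type*} [Group G] [Finite G] {p : ℕ} [hp : Fact p.Prime] {A : Subgroup G}

theorem coprime_card_of_isPGroup {R : Subgroup G} (hR : IsPGroup p R)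
    (hcop : (Nat.card A).Coprime p) : (Nat.card A).Coprime (Nat.card R) := by
  obtain ⟨k, hk⟩ := IsPGroup.iff_card.1 hR
  rw [hk]
  exact hcop.pow_right k

/-- A fixed point lying in `[R, A] Φ(R)` lies in `Φ(R)`. -/
theorem mem_frattini_of_fixed {R : Subgroup G} (hR : IsPGroup p R)
    (hA : A ≤ Subgroup.normalizer (R : Set G)) (hcop : (Nat.card A).Coprime p) {x : G}
    (hxR : x ∈ R) (hx : x ∈ Subgroup.centralizer (A : Set G))
    (hx' : x ∈ ⁅R, A⁆ ⊔ (frattini R).map R.subtype) : x ∈ (frattini R).map R.subtype := by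
  set Φ := (frattini R).map R.subtype with hΦ
  set N := Subgroup.normalizer (R : Set G) with hN
  have hRN : R ≤ N := Subgroup.le_normalizer
  have hΦR : Φ ≤ R := Subgroup.map_subtype_le _
  have hNΦ : N ≤ Subgroup.normalizer (Φ : Set G) := Cores.normalizer_le_normalizer_map _
  haveI : (Φ.subgroupOf N).Normal := Subgroup.normal_subgroupOf_of_le_normalizer hNΦ
  set f := QuotientGroup.mk' (Φ.subgroupOf N) with hf
  set V := (R.subgroupOf N).map f with hV
  set B := (A.subgroupOf N).map f with hB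
  haveI hVc : IsMulCommutative V := by
    constructor; constructor
    rintro ⟨_, a, ha, rfl⟩ ⟨_, b, hb, rfl⟩
    refine Subtype.ext ?_
    show f a * f b = f b * f a
    rw [← map_mul, ← map_mul, hf, QuotientGroup.mk'_apply, QuotientGroup.mk'_apply, QuotientGroup.eq,
      Subgroup.mem_subgroupOf]
    refine ⟨⁅(⟨b, hb⟩ : R)⁻¹, (⟨a, ha⟩ : R)⁻¹⁆, PGroup.commutatorElement_mem_frattini hR _ _, ?_⟩
    simp [commutatorElement_def, mul_assoc]
  have hBV : B ≤ Subgroup.normalizer (V : Set (N ⧸ Φ.subgroupOf N)) := by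
    have hn : (R.subgroupOf N).Normal := inferInstance
    rw [Subgroup.normalizer_eq_top_iff.2 (hn.map f (QuotientGroup.mk'_surjective _))]
    exact le_top
  have hcop' : (Nat.card B).Coprime (Nat.card V) := by
    refine ((coprime_card_of_isPGroup hR hcop).coprime_dvd_left ?_).coprime_dvd_right ?_
    · exact (Subgroup.card_map_dvd _ f).trans (by rw [Cores.card_subgroupOf hA])
    · exact (Subgroup.card_map_dvd _ f).trans (by rw [Cores.card_subgroupOf hRN])
  have hWN : ⁅R, A⁆ ≤ N := (Subgroup.le_normalizer_iff_commutator_le_left.1 hA).trans hRN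
  have hsupN : ⁅R, A⁆ ⊔ Φ ≤ N := sup_le hWN (hΦR.trans hRN)
  have h : f ⟨x, hRN hxR⟩ ∈ (V ⊓ Subgroup.centralizer (B : Set _)) ⊓ ⁅V, B⁆ := by
    refine ⟨⟨Subgroup.mem_map_of_mem f hxR, ?_⟩, ?_⟩
    · rintro _ ⟨a, ha, rfl⟩
      rw [← map_mul, ← map_mul]
      exact congrArg f (Subtype.ext (hx a ha))
    · rw [hV, hB, ← Subgroup.map_commutator]
      have h1 : (⟨x, hRN hxR⟩ : N) ∈ (⁅R, A⁆ ⊔ Φ).subgroupOf N := hx'
      rw [Subgroup.subgroupOf_sup hWN (hΦR.trans hRN)] at h1
      have h2 := Subgroup.mem_map_of_mem f h1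
      have hzero : (Φ.subgroupOf N).map f = ⊥ := by
        rw [Subgroup.map_eq_bot_iff, hf, QuotientGroup.ker_mk']
      rw [Subgroup.map_sup, hzero, sup_bot_eq] at h2
      have h3 : ⁅R, A⁆.subgroupOf N = ⁅R.subgroupOf N, A.subgroupOf N⁆ := by
        refine Subgroup.map_injective N.subtype_injective ?_
        rw [Subgroup.map_commutator, Subgroup.map_subgroupOf_eq_of_le hWN,
          Subgroup.map_subgroupOf_eq_of_le hRN, Subgroup.map_subgroupOf_eq_of_le hA]
      rwa [h3] at h2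
  rw [Coprime.abelian_inf_eq_bot hBV hcop', Subgroup.mem_bot, hf, QuotientGroup.mk'_apply,
    QuotientGroup.eq_one_iff] at h
  exact h

/-- The fixed points on a nonabelian metacyclic group are not inside the Frattini subgroup. -/
theorem not_fixed_le_frattini (hp2 : p ≠ 2) {R : Subgroup G} (hR : IsPGroup p R)
    (hm : Cfsg.IsMetacyclic R) (hna : ¬ IsMulCommutative R)
    (hA : A ≤ Subgroup.normalizer (R : Set G)) (hcop : (Nat.card A).Coprime p) :
    ¬ R ⊓ Subgroup.centralizer (A : Set G) ≤ (frattini R).map R.subtype := by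
  intro hle
  obtain ⟨N, y, hΦN, hyN, hα⟩ := exists_fixed_coset hp2 hR hm hna
  set φ : A →* MulAut R := R.normalizerMonoidHom.comp (Subgroup.inclusion hA) with hφ
  have hN : N.Normal := Subgroup.Normal.of_commutator_le (G := R) (H := N)
    ((PGroup.commutator_le_frattini hR).trans hΦN)
  have hN' : A ≤ Subgroup.normalizer ((N.map R.subtype : Subgroup G) : Set G) := fun a ha =>
    Coprime.mem_normalizer_of_forall fun x hx => by
      obtain ⟨x, hx', rfl⟩ := hx
      exact ⟨φ ⟨a, ha⟩ x, (hα _).1 x hx', rfl⟩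
  obtain ⟨c, hc, hcy⟩ := Coprime.exists_mem_centralizer_of_coset hA (coprime_card_of_isPGroup hR hcop)
    (Or.inr (Coprime.isSolvable_of_isPGroup hR)) (Subgroup.map_subtype_le N) hN' y.2
    (fun a ha => ⟨φ ⟨a, ha⟩ y * y⁻¹, hN.mem_comm (hα _).2, rfl⟩)
  have h1 : c ∈ N.map R.subtype := Subgroup.map_mono hΦN (hle hc)
  have h2 := mul_mem (inv_mem hcy) h1
  rw [mul_inv_rev, inv_inv, inv_mul_cancel_right] at h2
  obtain ⟨y', hy', he⟩ := h2
  exact hyN ((Subtype.ext he : y' = y) ▸ hy')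

/-- Coprime action on a metacyclic `p`-group, `p` odd. -/
theorem metacyclic_coprime (hp2 : p ≠ 2) {R : Subgroup G} (hR : IsPGroup p R)
    (hm : Cfsg.IsMetacyclic R) (hA : A ≤ Subgroup.normalizer (R : Set G))
    (hcop : (Nat.card A).Coprime p) :
    IsMulCommutative ↥⁅R, A⁆ ∧ ⁅R, A⁆ ⊔ (R ⊓ Subgroup.centralizer (A : Set G)) = R ∧
      ⁅R, A⁆ ⊓ (R ⊓ Subgroup.centralizer (A : Set G)) = ⊥ ∧
      (¬ IsMulCommutative R → ¬ A ≤ Subgroup.centralizer (R : Set G) →
        ⁅R, A⁆ ≠ ⊥ ∧ IsCyclic ↥⁅R, A⁆ ∧ (R ⊓ Subgroup.centralizer (A : Set G)) ≠ ⊥ ∧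
          IsCyclic ↥(R ⊓ Subgroup.centralizer (A : Set G)) ∧ ⁅R, R⁆ ≤ ⁅R, A⁆) := by
  have hcopR := coprime_card_of_isPGroup hR hcop
  have hs : Group.IsSolvable A ∨ Group.IsSolvable R := Or.inr (Coprime.isSolvable_of_isPGroup hR)
  set W := ⁅R, A⁆ with hW
  set C := R ⊓ Subgroup.centralizer (A : Set G) with hC
  have hWR : W ≤ R := Subgroup.le_normalizer_iff_commutator_le_left.1 hA
  have hWp : IsPGroup p W := hR.to_le hWR
  have hAW : A ≤ Subgroup.normalizer (W : Set G) := Subgroup.normalizer_commutator_ge_right R A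
  have hWW : ⁅W, A⁆ = W := Coprime.commutator_commutator_eq hA hcopR hs
  have hsup : W ⊔ C = R := Coprime.commutator_sup_centralizer hA hcopR hs
  have hWc : IsMulCommutative W := by
    by_contra hna
    have hWm : Cfsg.IsMetacyclic W :=
      isMetacyclic_of_injective (Subgroup.inclusion hWR) (Subgroup.inclusion_injective hWR) hm
    refine not_fixed_le_frattini hp2 hWp hWm hna hAW hcop fun x hx => ?_
    exact mem_frattini_of_fixed hWp hAW hcop hx.1 hx.2 (Subgroup.mem_sup_left (by rw [hWW]; exact hx.1))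
  have hinf : W ⊓ C = ⊥ := by
    rw [eq_bot_iff]
    haveI := hWc
    refine le_trans ?_ (Coprime.abelian_inf_eq_bot hAW (coprime_card_of_isPGroup hWp hcop)).le
    rw [hWW]
    exact fun x hx => ⟨⟨hx.1, hx.2.2⟩, hx.1⟩
  refine ⟨hWc, hsup, hinf, fun hna hnc => ?_⟩
  have hWne : W ≠ ⊥ := by
    intro h
    rw [hW, Subgroup.commutator_comm, Subgroup.commutator_eq_bot_iff_le_centralizer] at h
    exact hnc h
  obtain ⟨c, hcC, hcΦ⟩ := SetLike.not_le_iff_exists.1 (not_fixed_le_frattini hp2 hR hm hna hA hcop)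
  have hCne : C ≠ ⊥ := fun h => by
    rw [← hC, h, Subgroup.mem_bot] at hcC
    exact hcΦ (hcC ▸ one_mem _)
  -- inside `R`
  set W₀ := W.subgroupOf R with hW₀
  set C₀ := C.subgroupOf R with hC₀
  haveI hW₀n : W₀.Normal :=
    Subgroup.normal_subgroupOf_of_le_normalizer (Subgroup.normalizer_commutator_ge_left R A)
  set c₀ : R := ⟨c, hcC.1⟩ with hc₀
  have hsup₀ : W₀ ⊔ C₀ = ⊤ := by
    rw [hW₀, hC₀, ← Subgroup.subgroupOf_sup hWR inf_le_left, hsup, Subgroup.subgroupOf_self]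
  have hinf₀ : ∀ x : R, x ∈ W₀ → x ∈ C₀ → x = 1 := fun x h1 h2 => by
    have h : (x : G) ∈ W ⊓ C := ⟨h1, h2⟩
    rw [hinf, Subgroup.mem_bot] at h
    exact Subtype.ext h
  have hcW : c₀ ∉ W₀ ⊔ frattini R := fun h => by
    have h1 := Subgroup.mem_map_of_mem R.subtype h
    rw [Subgroup.map_sup, hW₀, Subgroup.map_subgroupOf_eq_of_le hWR] at h1
    exact hcΦ (mem_frattini_of_fixed hR hA hcop hcC.1 hcC.2 h1)
  have hWΦ : ¬ W₀ ≤ frattini R := by
    intro h
    have h1 : C₀ = ⊤ := PGroup.eq_top_of_sup_frattini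
      (eq_top_iff.2 (hsup₀.ge.trans (sup_le (h.trans le_sup_right) le_sup_left)))
    rw [hC₀, Subgroup.subgroupOf_eq_top] at h1
    exact hnc (Subgroup.le_centralizer_iff.1 (h1.trans inf_le_right))
  have hidx := index_frattini_le hR hm
  have hgen : Subgroup.zpowers c₀ ⊔ W₀ = ⊤ := by
    refine PGroup.eq_top_of_sup_frattini ?_
    by_contra hne
    obtain ⟨w, hw, hwΦ⟩ := SetLike.not_le_iff_exists.1 hWΦ
    have h1 := le_sup_zpowers_of_index hR hidx hne le_sup_right
      (Subgroup.mem_sup_left (Subgroup.mem_sup_right hw)) hwΦ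
    refine hcW (sup_le_sup_right (Subgroup.zpowers_le.2 hw) _ (h1.le ?_))
    exact Subgroup.mem_sup_left (Subgroup.mem_sup_left (Subgroup.mem_zpowers c₀))
  haveI hqc : IsCyclic (R ⧸ W₀) := by
    refine ⟨⟨(c₀ : R ⧸ W₀), fun x => ?_⟩⟩
    induction x using QuotientGroup.induction_on with
    | H y =>
      obtain ⟨u, hu, w, hw, rfl⟩ := Subgroup.mem_sup_of_normal_right.1 (hgen ▸ Subgroup.mem_top y :
        y ∈ Subgroup.zpowers c₀ ⊔ W₀)
      obtain ⟨i, rfl⟩ := Subgroup.mem_zpowers_iff.1 hu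
      refine ⟨i, ?_⟩
      show (c₀ : R ⧸ W₀) ^ i = _
      rw [QuotientGroup.mk_mul, (QuotientGroup.eq_one_iff w).2 hw, mul_one, QuotientGroup.mk_zpow]
  have hder : ⁅R, R⁆ ≤ W := by
    have h1 : commutator R ≤ W₀ :=
      Subgroup.Normal.quotient_commutative_iff_commutator_le.1 IsCyclic.isMulCommutative
    rw [← Subgroup.map_subtype_commutator]
    exact (Subgroup.map_mono h1).trans (by rw [hW₀, Subgroup.map_subgroupOf_eq_of_le hWR])
  have hCcyc : IsCyclic C := by
    refine isCyclic_of_injective ((QuotientGroup.mk' W₀).comp (Subgroup.inclusion (inf_le_left :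
      C ≤ R))) ?_
    rw [← MonoidHom.ker_eq_bot_iff, eq_bot_iff]
    intro x hx
    rw [MonoidHom.mem_ker, MonoidHom.comp_apply, QuotientGroup.mk'_apply,
      QuotientGroup.eq_one_iff] at hx
    have h := hinf₀ _ hx x.2
    have h' : (x : G) = 1 := congrArg Subtype.val h
    exact Subgroup.mem_bot.2 (Subtype.ext h')
  refine ⟨hWne, ?_, hCne, hCcyc, hder⟩
  -- `W` is cyclic
  suffices hW₀c : IsCyclic W₀ from
    isCyclic_of_surjective _ (Subgroup.subgroupOfEquivOfLe hWR).surjective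
  by_contra hnc'
  have hW₀p : IsPGroup p W₀ := hR.to_subgroup W₀
  have hW₀m : Cfsg.IsMetacyclic W₀ := isMetacyclic_of_injective W₀.subtype W₀.subtype_injective hm
  set Φw := (frattini W₀).map W₀.subtype with hΦw
  haveI hΦwn : Φw.Normal := Cores.map_subtype_normal_of_characteristic W₀ _
  set f := QuotientGroup.mk' Φw with hf
  set V := W₀.map f with hV
  haveI hVn : V.Normal := hW₀n.map f (QuotientGroup.mk'_surjective _)
  have hQ : IsPGroup p (R ⧸ Φw) := hR.to_quotient Φw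
  have hVexp : ∀ v ∈ V, v ^ p = 1 := by
    rintro _ ⟨w, hw, rfl⟩
    rw [← map_pow]
    exact (QuotientGroup.eq_one_iff _).2
      ⟨(⟨w, hw⟩ : W₀) ^ p, PGroup.pow_mem_frattini hW₀p _, rfl⟩
  have hVcard : Nat.card V = (frattini W₀).index := by
    have h := Subgroup.card_mul_index (frattini W₀)
    have h2 := Solvable.card_eq_card_map_mul f W₀
    have h3 : Nat.card Φw = Nat.card (frattini W₀) := Cores.card_map_subtype _ _
    rw [← hV, hf, QuotientGroup.ker_mk', inf_eq_right.2 (Subgroup.map_subtype_le _), h3, ← h,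
      mul_comm] at h2
    exact (Nat.eq_of_mul_eq_mul_right Nat.card_pos h2).symm
  have hV2 : Nat.card V = p ^ 2 := by
    obtain ⟨k, hk⟩ := hW₀p.index (frattini W₀)
    have hk2 : k ≤ 2 := (Nat.pow_le_pow_iff_right hp.out.one_lt).1 (hk ▸ index_frattini_le hW₀p hW₀m)
    rcases Nat.lt_or_ge k 2 with hlt | hge
    · exfalso
      apply hnc'
      by_cases ht : frattini W₀ = ⊤
      · exact PGroup.isCyclic_of_sup_frattini (x := 1) (by rw [ht, sup_top_eq])
      obtain ⟨g, -, hg⟩ := SetLike.exists_of_lt (lt_top_iff_ne_top.2 ht)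
      refine PGroup.isCyclic_of_sup_frattini (x := g) ?_
      by_contra hne
      have h1 := PGroup.mul_card_le_of_lt hW₀p (lt_of_le_of_ne
        (le_sup_right : frattini W₀ ≤ Subgroup.zpowers g ⊔ frattini W₀)
        fun h => hg (h.ge (Subgroup.mem_sup_left (Subgroup.mem_zpowers g))))
      have h2 := PGroup.mul_card_le_of_lt hW₀p (lt_top_iff_ne_top.2 hne)
      rw [Subgroup.card_top, ← Subgroup.card_mul_index (frattini W₀), hk] at h2
      have h3 : p * (p * Nat.card (frattini W₀)) ≤ p * Nat.card (frattini W₀) := by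
        refine (Nat.mul_le_mul_left p h1).trans (h2.trans ?_)
        rw [mul_comm]
        exact Nat.mul_le_mul_right _ ((Nat.pow_le_pow_right hp.out.pos (Nat.lt_succ_iff.1 hlt)).trans
          (pow_one p).le)
      have := Nat.le_of_mul_le_mul_right (a := p * p) (b := p)
        (by rwa [mul_assoc]) Nat.card_pos
      nlinarith [hp.out.two_le]
    · rw [hVcard, hk, show k = 2 by omega]
  -- `[V, R]` is central
  set E := ⁅V, (⊤ : Subgroup (R ⧸ Φw))⁆ with hE
  haveI hEn : E.Normal := Subgroup.commutator_normal V ⊤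
  have hEV : E ≤ V := Subgroup.commutator_le_left V ⊤
  have hEc : E ≤ Subgroup.center (R ⧸ Φw) := by
    have hlt := PGroup.commutator_lt_of_ne_bot hQ (N := V) (by
      intro h
      rw [h, Subgroup.card_bot] at hV2
      exact absurd hV2.symm (Nat.one_lt_pow two_ne_zero hp.out.one_lt).ne')
    have h1 := PGroup.mul_card_le_of_lt hQ hlt
    rw [hV2, sq] at h1
    have h2 : Nat.card E ≤ p := Nat.le_of_mul_le_mul_left h1 hp.out.pos
    rcases eq_or_ne E ⊥ with h | h
    · rw [h]; exact bot_le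
    · refine PGroup.le_center_of_card_eq hQ ?_
      obtain ⟨n, hn, hn'⟩ := (hQ.to_subgroup E).nontrivial_iff_card.1
        ((Subgroup.nontrivial_iff_ne_bot E).2 h)
      rw [hn'] at h2 ⊢
      have hn1 : n ≤ 1 := (Nat.pow_le_pow_iff_right hp.out.one_lt).1 (by rwa [pow_one])
      rw [show n = 1 by omega, pow_one]
  have hcomm : ∀ v ∈ V, ∀ g : R ⧸ Φw, ⁅g, v⁆ ∈ Subgroup.center (R ⧸ Φw) ∧ ⁅g, v⁆ ^ p = 1 := by
    intro v hv g
    have h : ⁅g, v⁆ ∈ E := by
      rw [← commutatorElement_inv]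
      exact inv_mem (Subgroup.commutator_mem_commutator hv (Subgroup.mem_top g))
    exact ⟨hEc h, hVexp _ (hEV h)⟩
  set d : R ⧸ Φw := f c₀ with hd
  have htop : ∀ q : R ⧸ Φw, ∃ v ∈ V, ∃ i : ℤ, q = v * d ^ i := by
    intro q
    obtain ⟨r, rfl⟩ := QuotientGroup.mk'_surjective Φw q
    obtain ⟨w, hw, u, hu, rfl⟩ := Subgroup.mem_sup_of_normal_left.1
      (by rw [sup_comm, hgen]; exact Subgroup.mem_top r : r ∈ W₀ ⊔ Subgroup.zpowers c₀)
    obtain ⟨i, rfl⟩ := Subgroup.mem_zpowers_iff.1 hu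
    exact ⟨f w, Subgroup.mem_map_of_mem f hw, i, by rw [map_mul, map_zpow]⟩
  have hdc : d ^ p ∈ Subgroup.center (R ⧸ Φw) := by
    rw [Subgroup.mem_center_iff]
    intro q
    obtain ⟨v, hv, i, rfl⟩ := htop q
    have h1 : Commute v (d ^ p) := by
      have h2 : ⁅d ^ p, v⁆ = 1 := by
        rw [PGroup.commutator_pow_left (PGroup.commute_of_mem_center (hcomm v hv d).1 _),
          (hcomm v hv d).2]
      exact (commutatorElement_eq_one_iff_commute.1 h2).symm
    exact (h1.mul_left ((Commute.refl d).zpow_left i |>.pow_right p)).eq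
  set M := Subgroup.zpowers (d ^ p) with hM
  haveI hMn : M.Normal := PGroup.zpowers_normal_of_mem_center hdc
  set g := QuotientGroup.mk' M with hg
  have hexp : ∀ x : (R ⧸ Φw) ⧸ M, x ^ p = 1 := by
    intro x
    obtain ⟨q, rfl⟩ := QuotientGroup.mk'_surjective M x
    obtain ⟨v, hv, i, rfl⟩ := htop q
    obtain ⟨hc1, hc2⟩ := hcomm v hv (d ^ i)
    rw [← map_pow, QuotientGroup.mk'_apply, QuotientGroup.eq_one_iff,
      PGroup.mul_pow_prime_eq hp.out hp2 (PGroup.commute_of_mem_center hc1 _)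
        (PGroup.commute_of_mem_center hc1 _) hc2, hVexp v hv, one_mul, ← zpow_natCast, zpow_comm,
      zpow_natCast]
    exact Subgroup.zpow_mem_zpowers _ i
  have hVinj : Nat.card (V.map g) = p ^ 2 := by
    rw [Solvable.card_map_of_disjoint g V ?_, hV2]
    rw [hg, QuotientGroup.ker_mk', eq_bot_iff]
    rintro v ⟨⟨w, hw, rfl⟩, hvM⟩
    obtain ⟨i, hi⟩ := Subgroup.mem_zpowers_iff.1 hvM
    rw [hd, ← map_pow, ← map_zpow, hf, QuotientGroup.mk'_apply, QuotientGroup.mk'_apply,
      QuotientGroup.eq] at hi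
    have hW' : (c₀ ^ p) ^ i ∈ W₀ := by
      have h2 := mul_mem hw (inv_mem (Subgroup.map_subtype_le _ hi))
      rwa [mul_inv_rev, inv_inv, mul_inv_cancel_left] at h2
    have h0 := hinf₀ _ hW' (C₀.zpow_mem (C₀.pow_mem (hcC : c₀ ∈ C₀) p) i)
    rw [h0, inv_one, one_mul] at hi
    exact Subgroup.mem_bot.2 ((QuotientGroup.eq_one_iff _).2 hi)
  have hproper : V.map g ≠ ⊤ := by
    intro h
    obtain ⟨v, hv, hve⟩ := (h ▸ Subgroup.mem_top (g d) : g d ∈ V.map g)
    obtain ⟨w, hw, rfl⟩ := hv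
    obtain ⟨i, hi⟩ := Subgroup.mem_zpowers_iff.1 (QuotientGroup.eq.1 hve)
    rw [hd, ← map_pow, ← map_zpow, ← map_inv, ← map_mul, hf, QuotientGroup.mk'_apply,
      QuotientGroup.mk'_apply, QuotientGroup.eq] at hi
    have h2 : (c₀ ^ p) ^ i ∈ frattini R :=
      Subgroup.zpow_mem _ (PGroup.pow_mem_frattini hR _) i
    have h3 : w⁻¹ * c₀ ∈ W₀ ⊔ frattini R := by
      have h4 := mul_mem (Subgroup.mem_sup_right (S := W₀) h2)
        (Subgroup.mem_sup_left (Subgroup.map_subtype_le _ hi))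
      rwa [mul_inv_cancel_left] at h4
    refine hcW ?_
    have h5 := mul_mem (Subgroup.mem_sup_left (T := frattini R) hw) h3
    rwa [mul_inv_cancel_left] at h5
  have hbig := PGroup.mul_card_le_of_lt (hQ.to_quotient M) (lt_top_iff_ne_top.2 hproper)
  rw [Subgroup.card_top, hVinj] at hbig
  have hsmall := card_le_sq_of_exponent (isMetacyclic_of_surjective (g.comp f)
    ((QuotientGroup.mk'_surjective M).comp (QuotientGroup.mk'_surjective Φw)) hm) hexp
  have := hbig.trans hsmall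
  nlinarith [hp.out.two_le, pow_pos hp.out.pos 2]

end Cfsg.Agent.RankTwo
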