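/-
`p`-groups of rank two with an odd order coprime operator group acting without fixed quotient
(Bender-Glauberman 4.13-4.16).

* `omega_facts` : `|Ω₁| = p ^ 3` : the centre of `Ω₁` and the cyclicity of `C(Ω₁)`
* `exists_fixed_section` : if `R ≠ Ω₁ C(Ω₁)`, odd order automorphisms fix a point of some `R ⧸ D`
* `blackburn` : `R = Ω₁(R) C_R(Ω₁(R))`
-/
import Cfsg.Agent.Lib.RankTwo.MetacyclicAction
import Cfsg.Agent.Lib.PGroup.Metacyclic
import Cfsg.Agent.Lib.PGroup.RankTwo

set_option autoImplicit false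

namespace Cfsg.Agent.RankTwo

open scoped commutatorElement

variable {p : ℕ} [hp : Fact p.Prime]

section TypeLevel

variable {R : Type*} [Group R] [Finite R]

/-- `Ω₁(R)`. -/
def omegaOne (p : ℕ) (R : Type*) [Group R] : Subgroup R := Subgroup.closure {x : R | x ^ p = 1}

omit hp [Finite R] in
theorem mem_omegaOne {x : R} (hx : x ^ p = 1) : x ∈ omegaOne p R := Subgroup.subset_closure hx

omit hp [Finite R] in
instance omegaOne_characteristic : (omegaOne p R).Characteristic :=
  PGroup.characteristic_of_forall_mem fun φ x hx => by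
    induction hx using Subgroup.closure_induction with
    | mem x hx => exact Subgroup.subset_closure (by
        show φ x ^ p = 1
        rw [← map_pow, show x ^ p = 1 from hx, map_one])
    | one => rw [map_one]; exact one_mem _
    | mul x y _ _ hx hy => rw [map_mul]; exact mul_mem hx hy
    | inv x _ hx => rw [map_inv]; exact inv_mem hx

theorem omega_exp (hp3 : 3 < p) (hR : IsPGroup p R) (hr : Cfsg.PRankLE p 2 R) {x : R}
    (hx : x ∈ omegaOne p R) : x ^ p = 1 :=
  PGroup.exponent_omega_rankTwo hp3 hR (fun E hE => hr E hE.1 hE.2) hx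

/-- The structure of `Ω₁` of order `p ^ 3`. -/
theorem omega_facts (hp3 : 3 < p) (hR : IsPGroup p R) (hr : Cfsg.PRankLE p 2 R)
    (hΩ : Nat.card (omegaOne p R) = p ^ 3) :
    ¬ IsMulCommutative (omegaOne p R) ∧
    IsCyclic ↥(Subgroup.centralizer (omegaOne p R : Set R)) ∧
    Nat.card ↥(omegaOne p R ⊓ Subgroup.centralizer (omegaOne p R : Set R)) = p ∧
    omegaOne p R ⊓ Subgroup.centralizer (omegaOne p R : Set R) ≤ Subgroup.center R ∧
    ⁅omegaOne p R, omegaOne p R⁆ = omegaOne p R ⊓ Subgroup.centralizer (omegaOne p R : Set R) := by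
  set Ω := omegaOne p R with hΩdef
  set C := Subgroup.centralizer (Ω : Set R) with hC
  set Z := Ω ⊓ C with hZ
  have hexp : ∀ x ∈ Ω, x ^ p = 1 := fun x hx => omega_exp hp3 hR hr hx
  have hna : ¬ IsMulCommutative Ω := by
    intro h
    have h1 := hr Ω h hexp
    rw [hΩ] at h1
    exact absurd ((Nat.pow_le_pow_iff_right hp.out.one_lt).1 h1) (by norm_num)
  haveI hCn : C.Normal := inferInstance
  haveI hZn : Z.Normal := inferInstance
  have hΩne : Ω ≠ ⊥ := fun h => hna (by rw [h]; infer_instance)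
  -- `|Z| = p`
  have hZne : Z ≠ ⊥ := by
    intro h
    obtain ⟨z, hzΩ, hzc, hzo⟩ := PGroup.exists_central_order_p hR hΩne
    have hzZ : z ∈ Z := ⟨hzΩ, fun w _ => Subgroup.mem_center_iff.1 hzc w⟩
    rw [h, Subgroup.mem_bot] at hzZ
    rw [hzZ, orderOf_one] at hzo
    exact hp.out.ne_one hzo.symm
  have hgen : ∀ a ∈ Ω, ¬ p ^ 3 ≤ Nat.card (Subgroup.zpowers a ⊔ Z : Subgroup R) := by
    intro a ha h
    have htop : Subgroup.zpowers a ⊔ Z = Ω := PGroup.eq_of_le_of_card_le
      (sup_le (Subgroup.zpowers_le.2 ha) inf_le_left) (hΩ.trans_le h)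
    have hac : ∀ w ∈ Ω, a * w = w * a := by
      intro w hw
      rw [← htop] at hw
      obtain ⟨u, hu, c, hc, rfl⟩ := Subgroup.mem_sup_of_normal_right.1 hw
      obtain ⟨i, rfl⟩ := Subgroup.mem_zpowers_iff.1 hu
      have h1 : Commute a c := hc.2 a ha
      exact ((Commute.refl a).zpow_right i).mul_right h1
    refine hna ⟨⟨fun x y => Subtype.ext ?_⟩⟩
    have hle : Ω ≤ C := by
      rw [← htop]
      exact sup_le (Subgroup.zpowers_le.2 fun w hw => (hac w hw).symm) inf_le_right
    exact hle y.2 x x.2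
  have hZcard : Nat.card Z = p := by
    obtain ⟨k, hk⟩ := PGroup.exists_subgroup_card_eq_pow hR Z
    have hk0 : k ≠ 0 := fun h => hZne (Subgroup.eq_bot_of_card_eq Z (by rw [hk, h, pow_zero]))
    by_cases hk1 : k = 1
    · rw [hk, hk1, pow_one]
    exfalso
    by_cases hZΩ : Z = Ω
    · exact hgen 1 (one_mem _) (by rw [Subgroup.zpowers_one_eq_bot, bot_sup_eq, hZΩ, hΩ])
    obtain ⟨a, ha, haZ⟩ := SetLike.exists_of_lt (lt_of_le_of_ne (inf_le_left : Z ≤ Ω) hZΩ)
    refine hgen a ha ?_
    have h1 := PGroup.mul_card_le_of_lt hR (lt_of_le_of_ne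
      (le_sup_right : Z ≤ Subgroup.zpowers a ⊔ Z)
      fun h => haZ (h.ge (Subgroup.mem_sup_left (Subgroup.mem_zpowers a))))
    rw [hk] at h1
    refine le_trans ?_ h1
    rw [← pow_succ']
    exact Nat.pow_le_pow_right hp.out.pos (by omega)
  -- `C` is cyclic
  have hCcyc : IsCyclic C := by
    refine (PGroup.unique_order_p_cases (hR.to_subgroup C) fun x y hx hy => ?_).resolve_right
      fun h => absurd h.1 (by omega)
    have hxZ : (x : R) ∈ Z := ⟨mem_omegaOne (by
      rw [← SubgroupClass.coe_pow, ← hx, pow_orderOf_eq_one]; rfl), x.2⟩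
    have hyZ : (y : R) ∈ Z := ⟨mem_omegaOne (by rw [← SubgroupClass.coe_pow, hy]; rfl), y.2⟩
    have hle : Z = Subgroup.zpowers (x : R) := by
      refine (PGroup.eq_of_le_of_card_le (Subgroup.zpowers_le.2 hxZ) ?_).symm
      rw [Nat.card_zpowers, Subgroup.orderOf_coe, hx, hZcard]
    rw [hle] at hyZ
    obtain ⟨i, hi⟩ := Subgroup.mem_zpowers_iff.1 hyZ
    exact Subgroup.mem_zpowers_iff.2 ⟨i, Subtype.ext (by rw [SubgroupClass.coe_zpow]; exact hi)⟩
  refine ⟨hna, hCcyc, hZcard, PGroup.le_center_of_card_eq hR hZcard, ?_⟩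
  -- the derived subgroup
  have hder : ⁅Ω, Ω⁆ ≠ ⊥ := by
    intro h
    rw [Subgroup.commutator_eq_bot_iff_le_centralizer] at h
    exact hna ⟨⟨fun x y => Subtype.ext (h y.2 x x.2)⟩⟩
  have hle : ⁅Ω, Ω⁆ ≤ Z := by
    rw [Subgroup.commutator_le]
    intro a ha b hb
    haveI : (Z.subgroupOf Ω).Normal := inferInstance
    have hq : Nat.card (Ω ⧸ Z.subgroupOf Ω) = p ^ 2 := by
      have h1 := Subgroup.card_mul_index (Z.subgroupOf Ω)
      rw [Nat.card_congr (Subgroup.subgroupOfEquivOfLe (inf_le_left : Z ≤ Ω)).toEquiv, hZcard,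
        hΩ, Subgroup.index_eq_card, pow_succ' p 2] at h1
      exact Nat.eq_of_mul_eq_mul_left hp.out.pos h1
    have hab := IsPGroup.commutative_of_card_eq_prime_sq hq
    have h2 : ((⁅(⟨a, ha⟩ : Ω), ⟨b, hb⟩⁆ : Ω) : Ω ⧸ Z.subgroupOf Ω) = 1 := by
      rw [← QuotientGroup.mk'_apply, map_commutatorElement, commutatorElement_eq_one_iff_commute]
      exact hab _ _
    exact Subgroup.mem_subgroupOf.1 ((QuotientGroup.eq_one_iff ⁅(⟨a, ha⟩ : Ω), (⟨b, hb⟩ : Ω)⁆).1 h2)
  refine PGroup.eq_of_le_of_card_le hle ?_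
  obtain ⟨k, hk⟩ := PGroup.exists_subgroup_card_eq_pow hR ⁅Ω, Ω⁆
  rw [hZcard, hk]
  refine Nat.le_self_pow (fun h => hder ?_) p
  exact Subgroup.eq_bot_of_card_eq _ (by rw [hk, h, pow_zero])

/-- If `R ≠ Ω₁ C(Ω₁)`, the odd order automorphisms of order prime to `p` fix a point outside some
`D ≥ Φ(R)` modulo `D`. -/
theorem exists_fixed_section (hp3 : 3 < p) (hR : IsPGroup p R) (hr : Cfsg.PRankLE p 2 R)
    (hΩ : Nat.card (omegaOne p R) = p ^ 3)
    (hne : omegaOne p R ⊔ Subgroup.centralizer (omegaOne p R : Set R) ≠ ⊤) :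
    ∃ (D : Subgroup R) (y : R), frattini R ≤ D ∧ y ∉ D ∧
      ∀ α : MulAut R, Odd (orderOf α) → (orderOf α).Coprime p →
        (∀ x ∈ D, α x ∈ D) ∧ α y * y⁻¹ ∈ D := by
  obtain ⟨-, hCcyc, hZcard, hZc, hder⟩ := omega_facts hp3 hR hr hΩ
  set Ω := omegaOne p R with hΩdef
  set C := Subgroup.centralizer (Ω : Set R) with hC
  set Z := Ω ⊓ C with hZ
  set K := Ω ⊔ C with hK
  have hexp : ∀ x ∈ Ω, x ^ p = 1 := fun x hx => omega_exp hp3 hR hr hx
  haveI hCn : C.Normal := inferInstance
  haveI hCch : C.Characteristic := inferInstance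
  haveI hZn : Z.Normal := inferInstance
  haveI hKn : K.Normal := inferInstance
  set f := QuotientGroup.mk' Z with hf
  have hfone : ∀ x : R, f x = 1 ↔ x ∈ Z := fun x => QuotientGroup.eq_one_iff x
  have hΩder : ∀ a ∈ Ω, ∀ b ∈ Ω, ⁅a, b⁆ ∈ Z := fun a ha b hb =>
    hder.le (Subgroup.commutator_mem_commutator ha hb)
  -- `Ω` modulo `Z`
  set V := Ω.map f with hV
  haveI hVn : V.Normal := (inferInstance : Ω.Normal).map f (QuotientGroup.mk'_surjective Z)
  have hQ : IsPGroup p (R ⧸ Z) := hR.to_quotient Z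
  have hVcard : Nat.card V = p ^ 2 := by
    have h := Solvable.card_eq_card_map_mul f Ω
    rw [← hV, hf, QuotientGroup.ker_mk', inf_eq_right.2 (inf_le_left : Z ≤ Ω), hΩ, hZcard,
      pow_succ p 2] at h
    exact (Nat.eq_of_mul_eq_mul_right hp.out.pos h).symm
  set K' := (Subgroup.centralizer (V : Set (R ⧸ Z))).comap f with hK'
  have hmemK' : ∀ g, g ∈ K' ↔ ∀ x ∈ Ω, ⁅g, x⁆ ∈ Z := by
    intro g
    constructor
    · intro hg x hx
      rw [← hfone, map_commutatorElement, commutatorElement_eq_one_iff_commute]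
      exact ((Subgroup.mem_comap.1 hg) (f x) (Subgroup.mem_map_of_mem f hx)).symm
    · intro h
      refine Subgroup.mem_comap.2 fun v hv => ?_
      obtain ⟨x, hx, rfl⟩ := hv
      have h1 := (hfone _).2 (h x hx)
      rw [map_commutatorElement, commutatorElement_eq_one_iff_commute] at h1
      exact h1.eq.symm
  have hKle : K ≤ K' := by
    refine sup_le (fun g hg => (hmemK' g).2 fun x hx => hΩder g hg x hx) fun g hg => (hmemK' g).2 ?_
    intro x hx
    rw [commutatorElement_eq_one_iff_mul_comm.2 (hg x hx).symm]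
    exact one_mem Z
  -- `K' = Ω C`
  have hKK : K = K' := by
    obtain ⟨a, ha, b, hb, hab⟩ : ∃ a ∈ Ω, ∃ b ∈ Ω, ⁅a, b⁆ ≠ 1 := by
      by_contra h
      push Not at h
      have h1 : ⁅Ω, Ω⁆ ≤ ⊥ := Subgroup.commutator_le.2 fun a ha b hb =>
        Subgroup.mem_bot.2 (h a ha b hb)
      rw [hder] at h1
      rw [le_bot_iff.1 h1, Subgroup.card_bot] at hZcard
      exact hp.out.ne_one hZcard.symm
    have hgenΩ : Subgroup.zpowers a ⊔ (Subgroup.zpowers b ⊔ Z) = Ω := by
      set T := Subgroup.zpowers b ⊔ Z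
      have hT : T ≤ Ω := sup_le (Subgroup.zpowers_le.2 hb) inf_le_left
      refine PGroup.eq_of_le_of_card_le (sup_le (Subgroup.zpowers_le.2 ha) hT) ?_
      have haT : a ∉ T := by
        intro h
        refine hab ?_
        obtain ⟨u, hu, c, hc, rfl⟩ := Subgroup.mem_sup_of_normal_right.1 h
        obtain ⟨i, rfl⟩ := Subgroup.mem_zpowers_iff.1 hu
        rw [commutatorElement_eq_one_iff_commute]
        exact ((Commute.refl b).zpow_left i).mul_left (hc.2 b hb).symm
      have hbZ : b ∉ Z := fun h => hab (commutatorElement_eq_one_iff_mul_comm.2 (h.2 a ha))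
      have h1 := PGroup.mul_card_le_of_lt hR (lt_of_le_of_ne (le_sup_right : Z ≤ T)
        fun h => hbZ (h.ge (Subgroup.mem_sup_left (Subgroup.mem_zpowers b))))
      have h2 := PGroup.mul_card_le_of_lt hR (lt_of_le_of_ne
        (le_sup_right : T ≤ Subgroup.zpowers a ⊔ T)
        fun h => haT (h.ge (Subgroup.mem_sup_left (Subgroup.mem_zpowers a))))
      rw [hΩ]
      refine le_trans ?_ h2
      rw [pow_succ', Nat.mul_le_mul_left_iff hp.out.pos, sq]
      exact (by rwa [hZcard] at h1)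
    let φ : K' →* Z × Z :=
      { toFun := fun g => (⟨⁅(g : R), a⁆, (hmemK' g).1 g.2 a ha⟩,
          ⟨⁅(g : R), b⁆, (hmemK' g).1 g.2 b hb⟩)
        map_one' := Prod.ext (Subtype.ext (commutatorElement_one_left a))
          (Subtype.ext (commutatorElement_one_left b))
        map_mul' := fun g h => by
          refine Prod.ext (Subtype.ext ?_) (Subtype.ext ?_)
          · show ⁅(g : R) * h, a⁆ = ⁅(g : R), a⁆ * ⁅(h : R), a⁆
            rw [PGroup.commutator_mul_left
              (PGroup.commute_of_mem_center (hZc ((hmemK' h).1 h.2 a ha)) _)]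
            exact (PGroup.commute_of_mem_center (hZc ((hmemK' g).1 g.2 a ha)) _).eq
          · show ⁅(g : R) * h, b⁆ = ⁅(g : R), b⁆ * ⁅(h : R), b⁆
            rw [PGroup.commutator_mul_left
              (PGroup.commute_of_mem_center (hZc ((hmemK' h).1 h.2 b hb)) _)]
            exact (PGroup.commute_of_mem_center (hZc ((hmemK' g).1 g.2 b hb)) _).eq }
    have hker : φ.ker.map K'.subtype ≤ C := by
      rintro _ ⟨g, hg, rfl⟩
      have h1 : ⁅(g : R), a⁆ = 1 := congrArg Subtype.val (congrArg Prod.fst hg)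
      have h2 : ⁅(g : R), b⁆ = 1 := congrArg Subtype.val (congrArg Prod.snd hg)
      rw [commutatorElement_eq_one_iff_mul_comm] at h1 h2
      have hle : Ω ≤ Subgroup.centralizer ({(g : R)} : Set R) := by
        rw [← hgenΩ]
        refine sup_le (Subgroup.zpowers_le.2 (Subgroup.mem_centralizer_singleton_iff.2 h1.symm))
          (sup_le (Subgroup.zpowers_le.2 (Subgroup.mem_centralizer_singleton_iff.2 h2.symm)) ?_)
        exact fun z hz => Subgroup.mem_centralizer_singleton_iff.2
          (Subgroup.mem_center_iff.1 (hZc hz) (g : R)).symm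
      exact fun w hw => Subgroup.mem_centralizer_singleton_iff.1 (hle hw)
    refine PGroup.eq_of_le_of_card_le hKle ?_
    have h3 : Nat.card K' ≤ p * p * Nat.card C := by
      rw [← Subgroup.card_mul_index φ.ker, Subgroup.index_ker, mul_comm]
      refine Nat.mul_le_mul ?_ ?_
      · refine (Nat.le_of_dvd Nat.card_pos (Subgroup.card_subgroup_dvd_card φ.range)).trans ?_
        rw [Nat.card_prod, hZcard]
      · rw [← Cores.card_map_subtype]
        exact Nat.le_of_dvd Nat.card_pos (Subgroup.card_dvd_of_le hker)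
    have hKcard : Nat.card K * p = p ^ 3 * Nat.card C := by
      have := Solvable.card_sup_mul_card_inf Ω C
      rw [← hZ, hZcard, hΩ] at this
      exact this
    refine h3.trans (le_of_eq ?_)
    refine Nat.eq_of_mul_eq_mul_right hp.out.pos ?_
    rw [hKcard]
    ring
  have hKidx : K.index = p := by
    have h1 := PGroup.index_centralizer_le hQ 2 V hVn hVcard
    have h2 : K.index ≤ p := by
      rw [hKK, hK', Subgroup.index_comap_of_surjective _ (QuotientGroup.mk'_surjective Z)]
      simpa using h1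
    obtain ⟨k, hk⟩ := hR.index K
    rcases Nat.lt_or_ge k 2 with hlt | hge
    · interval_cases k
      · exact absurd (Subgroup.index_eq_one.1 (by rw [hk, pow_zero])) hne
      · rw [hk, pow_one]
    · rw [hk] at h2
      exact absurd ((Nat.pow_le_pow_iff_right hp.out.one_lt).1 (h2.trans (pow_one p).ge)) (by omega)
  obtain ⟨g, -, hg⟩ := SetLike.exists_of_lt (lt_top_iff_ne_top.2 hne)
  -- `L = [Ω, R]`
  set L := ⁅Ω, (⊤ : Subgroup R)⁆ with hL
  haveI hLn : L.Normal := Subgroup.commutator_normal Ω ⊤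
  haveI hLch : L.Characteristic := inferInstance
  have hLΩ : L ≤ Ω := Subgroup.commutator_le_left Ω ⊤
  have hZL : Z ≤ L := hder.ge.trans (Subgroup.commutator_mono le_rfl le_top)
  have hLlt : L < Ω := PGroup.commutator_lt_of_ne_bot hR fun h => by
    rw [h, Subgroup.card_bot] at hΩ
    exact absurd hΩ.symm (Nat.one_lt_pow (by norm_num) hp.out.one_lt).ne'
  have hcommL : ∀ (u : R), ∀ x ∈ Ω, ⁅u, x⁆ ∈ L := fun u x hx => by
    rw [← commutatorElement_inv]
    exact inv_mem (Subgroup.commutator_mem_commutator hx (Subgroup.mem_top u))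
  have hLneZ : L ≠ Z := fun h => hg (hKK ▸ (hmemK' g).2 fun x hx => h.le (hcommL g x hx))
  have hLcard : Nat.card L = p ^ 2 := by
    refine le_antisymm ?_ ?_
    · have h1 := PGroup.mul_card_le_of_lt hR hLlt
      rw [hΩ, pow_succ' p 2] at h1
      exact Nat.le_of_mul_le_mul_left h1 hp.out.pos
    · have h1 := PGroup.mul_card_le_of_lt hR (lt_of_le_of_ne hZL hLneZ.symm)
      rwa [hZcard, ← sq] at h1
  have hLc := PGroup.isMulCommutative_of_card_sq hLcard
  have hLcomm : ∀ a ∈ L, ∀ b ∈ L, Commute a b := fun a ha b hb =>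
    congrArg Subtype.val (hLc.is_comm.comm (⟨a, ha⟩ : L) ⟨b, hb⟩)
  have hLR : ∀ (u : R), ∀ l ∈ L, ⁅u, l⁆ ∈ Z := by
    intro u l hl
    have h2 : ⁅u, l⁆ ∈ ⁅L, (⊤ : Subgroup R)⁆ := by
      rw [← commutatorElement_inv]
      exact inv_mem (Subgroup.commutator_mem_commutator hl (Subgroup.mem_top u))
    set M := ⁅L, (⊤ : Subgroup R)⁆
    haveI : M.Normal := Subgroup.commutator_normal L ⊤
    rcases eq_or_ne M ⊥ with h | h
    · rw [h, Subgroup.mem_bot] at h2
      rw [h2]
      exact one_mem Z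
    have h1 := PGroup.mul_card_le_of_lt hR (PGroup.commutator_lt_of_ne_bot hR (N := L) fun h' => by
      rw [h', Subgroup.card_bot] at hLcard
      exact absurd hLcard.symm (Nat.one_lt_pow (by norm_num) hp.out.one_lt).ne')
    rw [hLcard, sq] at h1
    have hMcard : Nat.card M = p := by
      obtain ⟨k, hk⟩ := PGroup.exists_subgroup_card_eq_pow hR M
      refine le_antisymm (Nat.le_of_mul_le_mul_left h1 hp.out.pos) ?_
      rw [hk]
      exact Nat.le_self_pow (fun hk0 => h (Subgroup.eq_bot_of_card_eq M (by rw [hk, hk0, pow_zero]))) p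
    have hMc : M ≤ Subgroup.center R := PGroup.le_center_of_card_eq hR hMcard
    exact ⟨hLΩ ((Subgroup.commutator_le_left L ⊤) h2),
      fun w _ => Subgroup.mem_center_iff.1 (hMc h2) w⟩
  obtain ⟨y, hy, hyL⟩ := SetLike.exists_of_lt hLlt
  have hgenLy : Subgroup.zpowers y ⊔ L = Ω := by
    refine PGroup.eq_of_le_of_card_le (sup_le (Subgroup.zpowers_le.2 hy) hLΩ) ?_
    have h2 := PGroup.mul_card_le_of_lt hR (lt_of_le_of_ne
      (le_sup_right : L ≤ Subgroup.zpowers y ⊔ L)
      fun h => hyL (h.ge (Subgroup.mem_sup_left (Subgroup.mem_zpowers y))))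
    rw [hLcard] at h2
    rwa [hΩ, pow_succ']
  set l := ⁅g, y⁆ with hl
  have hlL : l ∈ L := hcommL g y hy
  have hlZ : l ∉ Z := by
    intro h
    refine hg (hKK ▸ (hmemK' g).2 ?_)
    intro x hx
    rw [← hgenLy] at hx
    obtain ⟨u, hu, w, hw, rfl⟩ := Subgroup.mem_sup_of_normal_right.1 hx
    obtain ⟨i, rfl⟩ := Subgroup.mem_zpowers_iff.1 hu
    rw [← hfone, map_commutatorElement, map_mul, map_zpow, commutatorElement_eq_one_iff_commute]
    have h1 := (hfone _).2 h
    rw [hl, map_commutatorElement, commutatorElement_eq_one_iff_commute] at h1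
    have h2 := (hfone _).2 (hLR g w hw)
    rw [map_commutatorElement, commutatorElement_eq_one_iff_commute] at h2
    exact (h1.zpow_right i).mul_right h2
  set z := ⁅l, y⁆ with hz
  have hzZ : z ∈ Z := by
    rw [hz, ← commutatorElement_inv]
    exact inv_mem (hLR y l hlL)
  have hz1 : z ≠ 1 := by
    intro h
    rw [hz, commutatorElement_eq_one_iff_commute] at h
    refine hlZ ⟨hLΩ hlL, fun w hw => ?_⟩
    rw [SetLike.mem_coe, ← hgenLy] at hw
    obtain ⟨u, hu, w', hw', rfl⟩ := Subgroup.mem_sup_of_normal_right.1 hw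
    obtain ⟨i, rfl⟩ := Subgroup.mem_zpowers_iff.1 hu
    exact (h.zpow_right i).mul_right (hLcomm l hlL w' hw') |>.eq.symm
  -- `g ^ p` centralizes `Ω`
  have hgpy : ∀ x ∈ Ω, Commute (g ^ p) x := by
    intro x hx
    have he := hLR g ⁅g, x⁆ (hcommL g x hx)
    have h := PGroup.conj_pow_eq_three (x := x) (y := g) (PGroup.commute_of_mem_center (hZc he) g)
      (PGroup.commute_of_mem_center (hZc he) _) p
    rw [hexp _ (hLΩ (hcommL g x hx))] at h
    obtain ⟨m, hm⟩ := hp.out.dvd_choose_self (k := 2) (by norm_num) (by omega)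
    rw [hm, pow_mul, hexp _ he.1, one_pow, one_mul, one_mul] at h
    exact h
  have hgC : g ^ p ∈ C := fun w hw => (hgpy w hw).eq.symm
  -- `⟨g⟩ C = ⟨g⟩`
  have hdec : ∀ r : R, ∃ i : ℕ, ∃ w ∈ K, r = g ^ i * w := by
    intro r
    have hq : Nat.card (R ⧸ K) = p := by rw [← Subgroup.index_eq_card, hKidx]
    have hg' : (g : R ⧸ K) ≠ 1 := fun h => hg ((QuotientGroup.eq_one_iff g).1 h)
    obtain ⟨i, hi⟩ := Submonoid.mem_powers_iff _ _ |>.1
      (mem_powers_of_prime_card hq hg' (g' := (r : R ⧸ K)))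
    rw [← QuotientGroup.mk_pow, QuotientGroup.eq] at hi
    exact ⟨i, _, hi, (mul_inv_cancel_left _ _).symm⟩
  have hgiK : ∀ i : ℕ, g ^ i ∈ K → p ∣ i := by
    intro i hi
    by_contra hnd
    exact hg (Coprime.mem_of_pow_mem (by
      obtain ⟨k, hk⟩ := IsPGroup.iff_orderOf.1 hR g
      rw [hk]
      exact Nat.Coprime.pow_left k (hp.out.coprime_iff_not_dvd.2 hnd)) hi)
  set U := Subgroup.zpowers g ⊔ C with hU
  have hUΩ : Ω ⊓ U ≤ Z := by
    rintro w ⟨hw, hwU⟩
    obtain ⟨u, hu, c, hc, rfl⟩ := Subgroup.mem_sup_of_normal_right.1 hwU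
    obtain ⟨i, rfl⟩ := mem_powers_iff_mem_zpowers.2 hu
    refine ⟨hw, mul_mem ?_ hc⟩
    obtain ⟨j, rfl⟩ := hgiK i (by
      have h1 := mul_mem (Subgroup.mem_sup_left (T := C) hw)
        (Subgroup.mem_sup_right (S := Ω) (inv_mem hc))
      rwa [mul_inv_cancel_right] at h1)
    show g ^ (p * j) ∈ C
    rw [pow_mul]
    exact pow_mem hgC j
  have hUcyc : IsCyclic U := by
    refine (PGroup.unique_order_p_cases (hR.to_subgroup U) fun x w hx hw => ?_).resolve_right
      fun h => absurd h.1 (by omega)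
    have hxZ : (x : R) ∈ Z := hUΩ ⟨mem_omegaOne (by
      rw [← SubgroupClass.coe_pow, ← hx, pow_orderOf_eq_one]; rfl), x.2⟩
    have hwZ : (w : R) ∈ Z := hUΩ ⟨mem_omegaOne (by rw [← SubgroupClass.coe_pow, hw]; rfl), w.2⟩
    have hle : Z = Subgroup.zpowers (x : R) := by
      refine (PGroup.eq_of_le_of_card_le (Subgroup.zpowers_le.2 hxZ) ?_).symm
      rw [Nat.card_zpowers, Subgroup.orderOf_coe, hx, hZcard]
    rw [hle] at hwZ
    obtain ⟨i, hi⟩ := Subgroup.mem_zpowers_iff.1 hwZ
    exact Subgroup.mem_zpowers_iff.2 ⟨i, Subtype.ext (by rw [SubgroupClass.coe_zpow]; exact hi)⟩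
  have hCg : ∀ c ∈ C, c ∈ Subgroup.zpowers (g ^ p) := by
    obtain ⟨⟨h, hhU⟩, hh⟩ := hUcyc.exists_generator
    have hgen : ∀ u ∈ U, ∃ i : ℕ, h ^ i = u := fun u hu => by
      obtain ⟨i, hi⟩ := mem_powers_iff_mem_zpowers.2 (hh ⟨u, hu⟩)
      exact ⟨i, congrArg Subtype.val hi⟩
    obtain ⟨a, ha⟩ := hgen g (Subgroup.mem_sup_left (Subgroup.mem_zpowers g))
    obtain ⟨k, hk⟩ := IsPGroup.iff_orderOf.1 hR h
    have hunit : ∀ b : ℕ, ¬ p ∣ b → ∀ H : Subgroup R, h ^ b ∈ H → h ∈ H := fun b hb H hH =>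
      Coprime.mem_of_pow_mem (by
        rw [hk]
        exact Nat.Coprime.pow_left k (hp.out.coprime_iff_not_dvd.2 hb)) hH
    have hhC : h ∉ C := fun hhC => hg (Subgroup.mem_sup_right (by rw [← ha]; exact pow_mem hhC a))
    have hpa : ¬ p ∣ a := by
      rintro ⟨m, rfl⟩
      have hle : U ≤ Subgroup.zpowers (h ^ p) := by
        refine sup_le (Subgroup.zpowers_le.2 ?_) fun c hc => ?_
        · rw [← ha, pow_mul]
          exact pow_mem (Subgroup.mem_zpowers _) m
        · obtain ⟨b, rfl⟩ := hgen c (Subgroup.mem_sup_right hc)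
          obtain ⟨n, rfl⟩ : p ∣ b := by
            by_contra hnd
            exact hhC (hunit b hnd C hc)
          rw [pow_mul]
          exact pow_mem (Subgroup.mem_zpowers _) n
      have h1 : Subgroup.zpowers h ≤ Subgroup.zpowers (h ^ p) :=
        Subgroup.zpowers_le.2 (hle hhU)
      have h2 := Nat.le_of_dvd Nat.card_pos (Subgroup.card_dvd_of_le h1)
      rw [Nat.card_zpowers, Nat.card_zpowers, orderOf_pow' _ hp.out.ne_zero, hk] at h2
      rcases Nat.eq_zero_or_pos k with hk0 | hk0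
      · rw [hk0, pow_zero, orderOf_eq_one_iff] at hk
        exact hhC (hk ▸ one_mem C)
      · rw [Nat.gcd_eq_right (dvd_pow_self p hk0.ne')] at h2
        exact absurd h2 (not_le.2 (Nat.div_lt_self (pow_pos hp.out.pos k) hp.out.one_lt))
    intro c hc
    have hhg : h ∈ Subgroup.zpowers g :=
      hunit a hpa _ (by rw [ha]; exact Subgroup.mem_zpowers g)
    obtain ⟨b, rfl⟩ := hgen c (Subgroup.mem_sup_right hc)
    obtain ⟨n, hn⟩ := mem_powers_iff_mem_zpowers.2 (pow_mem hhg b)
    simp only at hn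
    obtain ⟨m, rfl⟩ := hgiK n (Subgroup.mem_sup_right (by rw [hn]; exact hc))
    rw [← hn, pow_mul]
    exact pow_mem (Subgroup.mem_zpowers _) m
  have hgpc : g ^ p ∈ Subgroup.center R := by
    rw [Subgroup.mem_center_iff]
    intro r
    obtain ⟨i, w, hw, rfl⟩ := hdec r
    obtain ⟨u, hu, c, hc, rfl⟩ := Subgroup.mem_sup_of_normal_right.1 hw
    obtain ⟨n, rfl⟩ := Subgroup.mem_zpowers_iff.1 (hCg c hc)
    exact ((((Commute.refl g).pow_pow p i).mul_right
      ((hgpy u hu).mul_right ((Commute.refl (g ^ p)).zpow_right n))).eq).symm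
  have hCc : C ≤ Subgroup.center R := fun c hc =>
    (Subgroup.zpowers_le.2 hgpc) (hCg c hc)
  -- the derived subgroup
  have hR' : commutator R ≤ L := by
    refine Subgroup.Normal.quotient_commutative_iff_commutator_le.1 ⟨⟨fun q₁ q₂ => ?_⟩⟩
    induction q₁ using QuotientGroup.induction_on with
    | H r₁ =>
      induction q₂ using QuotientGroup.induction_on with
      | H r₂ =>
        set F := QuotientGroup.mk' L with hF
        have hΩc : ∀ (u : R), ∀ x ∈ Ω, Commute (F u) (F x) := fun u x hx => by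
          rw [← commutatorElement_eq_one_iff_commute, ← map_commutatorElement]
          exact (QuotientGroup.eq_one_iff _).2 (hcommL u x hx)
        obtain ⟨i, w, hw, rfl⟩ := hdec r₁
        obtain ⟨i', w', hw', rfl⟩ := hdec r₂
        obtain ⟨u, hu, c, hc, rfl⟩ := Subgroup.mem_sup_of_normal_right.1 hw
        obtain ⟨u', hu', c', hc', rfl⟩ := Subgroup.mem_sup_of_normal_right.1 hw'
        show Commute (F (g ^ i * (u * c))) (F (g ^ i' * (u' * c')))
        have hcc : ∀ r : R, Commute (F r) (F c') := fun r =>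
          Commute.map (PGroup.commute_of_mem_center (hCc hc') r) F
        have hcc' : ∀ r : R, Commute (F c) (F r) := fun r =>
          (Commute.map (PGroup.commute_of_mem_center (hCc hc) r) F).symm
        simp only [map_mul]
        refine Commute.mul_left (Commute.mul_right ?_ (Commute.mul_right (hΩc _ _ hu') (hcc _)))
          (Commute.mul_left (Commute.mul_right (hΩc _ _ hu).symm
            (Commute.mul_right (hΩc _ _ hu') (hcc _))) (hcc' _ |>.mul_right
              ((hcc' _).mul_right (hcc' _))))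
        exact Commute.map ((Commute.refl g).pow_pow i i') F
  have hclass : ∀ a b c : R, ⁅a, ⁅b, c⁆⁆ ∈ Subgroup.center R := fun a b c =>
    hZc (hLR a _ (hR' (Subgroup.commutator_mem_commutator (Subgroup.mem_top b) (Subgroup.mem_top c))))
  set D := L ⊔ C with hD
  haveI hDn : D.Normal := inferInstance
  refine ⟨D, y, ?_, ?_, fun α hodd hcop => ?_⟩
  · refine PGroup.frattini_le_of_quotient_elementary (p := p) (hR'.trans le_sup_left) fun r => ?_
    obtain ⟨i, w, hw, rfl⟩ := hdec r
    obtain ⟨u, hu, c, hc, rfl⟩ := Subgroup.mem_sup_of_normal_right.1 hw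
    have hgi : (g ^ i) ^ p ∈ Subgroup.center R := by
      rw [← pow_mul, mul_comm, pow_mul]
      exact pow_mem hgpc i
    rw [← mul_assoc, (PGroup.commute_of_mem_center (hCc hc) (g ^ i * u)).mul_pow,
      PGroup.mul_pow_classThree hp.out hp3 hclass hgi (by rw [hexp u hu]; exact one_mem _), hexp u hu,
      mul_one, ← pow_mul, mul_comm i, pow_mul]
    exact mul_mem (Subgroup.mem_sup_right (pow_mem hgC i)) (Subgroup.mem_sup_right (pow_mem hc p))
  · intro h
    obtain ⟨w, hw, c, hc, he⟩ := Subgroup.mem_sup_of_normal_left.1 h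
    have hcΩ : c ∈ Ω := by
      have h1 := mul_mem (inv_mem (hLΩ hw)) hy
      rwa [← he, inv_mul_cancel_left] at h1
    exact hyL (he ▸ mul_mem hw (hZL ⟨hcΩ, hc⟩))
  -- the action
  have hαΩ : ∀ x ∈ Ω, α x ∈ Ω := fun x hx => (PGroup.aut_mem_iff α x).2 hx
  have hαC : ∀ x ∈ C, α x ∈ C := fun x hx => (PGroup.aut_mem_iff α x).2 hx
  have hαL : ∀ x ∈ L, α x ∈ L := fun x hx => (PGroup.aut_mem_iff α x).2 hx
  refine ⟨fun x hx => ?_, ?_⟩
  · obtain ⟨w, hw, c, hc, rfl⟩ := Subgroup.mem_sup_of_normal_left.1 hx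
    rw [map_mul]
    exact mul_mem (Subgroup.mem_sup_left (hαL w hw)) (Subgroup.mem_sup_right (hαC c hc))
  refine Subgroup.mem_sup_left ?_
  obtain ⟨j, l₁, hl₁, hj⟩ : ∃ j : ℕ, ∃ l₁ ∈ L, α y = y ^ j * l₁ := by
    have h := hαΩ y hy
    rw [← hgenLy] at h
    obtain ⟨u, hu, w, hw, he⟩ := Subgroup.mem_sup_of_normal_right.1 h
    obtain ⟨j, rfl⟩ := mem_powers_iff_mem_zpowers.2 hu
    exact ⟨j, w, hw, he.symm⟩
  obtain ⟨i, w, hw, hi⟩ := hdec (α g)
  have hαK : ∀ x ∈ K, α x ∈ K := fun x hx => by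
    obtain ⟨u, hu, c, hc, rfl⟩ := Subgroup.mem_sup_of_normal_right.1 hx
    rw [map_mul]
    exact mul_mem (Subgroup.mem_sup_left (hαΩ u hu)) (Subgroup.mem_sup_right (hαC c hc))
  have hpi : ¬ p ∣ i := by
    rintro ⟨m, rfl⟩
    refine hg ?_
    have h1 : α g ∈ K := by
      rw [hi]
      exact mul_mem (by rw [pow_mul]; exact pow_mem (Subgroup.mem_sup_right hgC) m) hw
    have h2 : Finite (MulAut R) := inferInstance
    have h3 : ∀ n : ℕ, (α ^ (n + 1)) g ∈ K := fun n => by
      induction n with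
      | zero => rwa [pow_one]
      | succ n ih => rw [pow_succ', MulAut.mul_apply]; exact hαK _ ih
    have h4 := h3 (orderOf α - 1)
    rwa [Nat.sub_add_cancel (orderOf_pos α), pow_orderOf_eq_one, MulAut.one_apply] at h4
  obtain ⟨u, hu, c, hc, rfl⟩ := Subgroup.mem_sup_of_normal_right.1 hw
  -- modulo `Z`
  have hfl : ∀ r : R, Commute (f r) (f l) := fun r => by
    rw [← commutatorElement_eq_one_iff_commute, ← map_commutatorElement]
    exact (hfone _).2 (hLR r l hlL)
  have hαl : α l * (l ^ (i * j))⁻¹ ∈ Z := by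
    rw [← hfone, map_mul, map_inv, mul_inv_eq_one, hl, map_commutatorElement α, hi, hj,
      map_commutatorElement f, map_mul, map_mul, map_mul, map_pow, map_pow, map_pow,
      map_commutatorElement f]
    have hll : f ⁅g, y⁆ = ⁅f g, f y⁆ := map_commutatorElement f g y
    have hfl₁ : ∀ r : R, Commute (f r) (f l₁) := fun r => by
      rw [← commutatorElement_eq_one_iff_commute, ← map_commutatorElement]
      exact (hfone _).2 (hLR r l₁ hl₁)
    have hfc : ∀ r : R, Commute (f r) (f c) := fun r =>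
      Commute.map (PGroup.commute_of_mem_center (hCc hc) r) f
    have huy : Commute (f u) (f y) := by
      rw [← commutatorElement_eq_one_iff_commute, ← map_commutatorElement]
      exact (hfone _).2 (hΩder u hu y hy)
    have e1 : ⁅f g ^ i * (f u * f c), f y ^ j * f l₁⁆ = ⁅f g ^ i, f y ^ j⁆ := by
      have h1 : Commute (f u * f c) (f y ^ j) := (huy.mul_left (hfc y).symm).pow_right j
      have h2 : Commute (f g ^ i * (f u * f c)) (f l₁) :=
        ((hfl₁ g).pow_left i).mul_left ((hfl₁ u).mul_left (hfl₁ c))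
      have h3 : ∀ {A : Type _} [Group A] (a b d : A), Commute a d → Commute b d →
          ⁅a, b * d⁆ = ⁅a, b⁆ := by
        intro A _ a b d had hbd
        rw [PGroup.commutator_mul_right (by rw [commutatorElement_eq_one_iff_commute.2 had]
                                            exact Commute.one_right b),
          commutatorElement_eq_one_iff_commute.2 had, mul_one]
      have h4 : ∀ {A : Type _} [Group A] (a b d : A), Commute b d → ⁅a * b, d⁆ = ⁅a, d⁆ := by
        intro A _ a b d hbd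
        rw [PGroup.commutator_mul_left (by rw [commutatorElement_eq_one_iff_commute.2 hbd]
                                           exact Commute.one_right a),
          commutatorElement_eq_one_iff_commute.2 hbd, one_mul]
      rw [h3 _ _ _ h2 ((hfl₁ y).pow_left j), h4 _ _ _ h1]
    rw [e1, PGroup.commutator_pow_left, PGroup.commutator_pow_right, ← pow_mul, mul_comm j i]
    · rw [← hll]; exact hfl y
    · rw [PGroup.commutator_pow_right (by rw [← hll]; exact hfl y), ← hll]
      exact (hfl g).pow_right j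
  -- on `Z`
  have hlk : ∀ k : ℕ, Commute (l ^ k) ⁅l, y⁆ ∧ Commute y ⁅l, y⁆ := fun k =>
    ⟨PGroup.commute_of_mem_center (hZc hzZ) _, PGroup.commute_of_mem_center (hZc hzZ) _⟩
  have hαz : α z = z ^ (i * j * j) := by
    set z₂ := α l * (l ^ (i * j))⁻¹ with hz₂
    have he : α l = z₂ * l ^ (i * j) := by rw [hz₂, inv_mul_cancel_right]
    have hc1 : Commute (l ^ (i * j)) l₁ := (hLcomm l hlL l₁ hl₁).pow_left _
    have hz₂c := hZc hαl
    rw [hz, map_commutatorElement, he, hj]
    have e1 : ⁅z₂ * l ^ (i * j), y ^ j * l₁⁆ = ⁅l ^ (i * j), y ^ j * l₁⁆ := by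
      rw [PGroup.commutator_mul_left ((PGroup.commute_of_mem_center hz₂c _).symm),
        PGroup.commutator_eq_one_of_mem_center hz₂c, mul_one]
    have e2 : ⁅l ^ (i * j), y ^ j * l₁⁆ = ⁅l ^ (i * j), y ^ j⁆ := by
      rw [PGroup.commutator_mul_right (by rw [commutatorElement_eq_one_iff_commute.2 hc1]
                                          exact Commute.one_right _),
        commutatorElement_eq_one_iff_commute.2 hc1, mul_one]
    rw [e1, e2, PGroup.commutator_pow_right, PGroup.commutator_pow_left, ← pow_mul]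
    · exact (hlk 1).1 |> fun h => by rwa [pow_one] at h
    · rw [PGroup.commutator_pow_left (by simpa using (hlk 1).1)]
      exact (hlk 1).2.pow_right _
  obtain ⟨n, hn⟩ := mem_powers_iff_mem_zpowers.2 (hCg c hc)
  obtain ⟨m, hm⟩ := mem_powers_iff_mem_zpowers.2 (hCg z hzZ.2)
  have hαgp : α (g ^ p) = g ^ (p * (i + p * n)) := by
    have hgi : (g ^ i) ^ p ∈ Subgroup.center R := by
      rw [← pow_mul, mul_comm, pow_mul]
      exact pow_mem hgpc i
    rw [map_pow, hi, ← mul_assoc, (PGroup.commute_of_mem_center (hCc hc) (g ^ i * u)).mul_pow,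
      PGroup.mul_pow_classThree hp.out hp3 hclass hgi (by rw [hexp u hu]; exact one_mem _), hexp u hu,
      mul_one, ← hn, ← pow_mul, ← pow_mul, ← pow_mul, ← pow_add]
    congr 1
    ring
  have hzp : z ^ p = 1 := hexp z hzZ.1
  have hαz' : α z = z ^ i := by
    have h1 : (z ^ p) ^ n = 1 := by rw [hzp, one_pow]
    calc α z = (α (g ^ p)) ^ m := by rw [← hm, map_pow]
      _ = z ^ (i + p * n) := by
        rw [hαgp, ← hm, ← pow_mul, ← pow_mul, ← pow_mul]
        congr 1
        ring
      _ = z ^ i := by rw [pow_add, pow_mul, h1, mul_one]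
  have hj1 : ((j : ℤ) - 1) * (j + 1) * i = (i * j * j : ℕ) - (i : ℕ) := by push_cast; ring
  have hdvd : (p : ℤ) ∣ ((j : ℤ) - 1) * (j + 1) * i := by
    rw [hj1]
    have h1 := pow_eq_pow_iff_modEq.1 (hαz.symm.trans hαz')
    rw [orderOf_eq_prime hzp hz1] at h1
    exact Nat.modEq_iff_dvd.1 h1.symm
  have hpp : Prime (p : ℤ) := Nat.prime_iff_prime_int.1 hp.out
  rcases hpp.dvd_or_dvd hdvd with h | h
  rcases hpp.dvd_or_dvd h with h | h
  · -- `j ≡ 1`
    obtain ⟨e, he⟩ := h
    have hjz : (y ^ j : R) = y * y ^ ((p : ℤ) * e) := by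
      rw [← zpow_natCast, ← zpow_one_add]
      congr 1
      omega
    have hye : y ^ ((p : ℤ) * e) = 1 := by
      rw [zpow_mul, zpow_natCast, hexp y hy, one_zpow]
    rw [hj, hjz, hye, mul_one]
    exact hLn.conj_mem l₁ hl₁ y
  · -- `j ≡ -1` contradicts the odd order
    exfalso
    obtain ⟨e, he⟩ := h
    set F := QuotientGroup.mk' L with hF
    have hFy : F (α y) = (F y)⁻¹ := by
      rw [hj, map_mul, show F l₁ = 1 from (QuotientGroup.eq_one_iff _).2 hl₁, mul_one, map_pow,
        eq_inv_iff_mul_eq_one, ← pow_succ, ← zpow_natCast]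
      push_cast
      rw [he, zpow_mul, zpow_natCast, ← map_pow, hexp y hy, map_one, one_zpow]
    have hFα : ∀ r r' : R, F r = F r' → F (α r) = F (α r') := fun r r' h => by
      rw [hF, QuotientGroup.mk'_apply, QuotientGroup.mk'_apply, QuotientGroup.eq] at h ⊢
      rw [← map_inv, ← map_mul]
      exact hαL _ h
    have hiter : ∀ n : ℕ, F ((α ^ (2 * n)) y) = F y := by
      intro n
      induction n with
      | zero => rfl
      | succ n ih =>
        rw [show 2 * (n + 1) = 1 + (1 + 2 * n) by ring, pow_add, pow_one, MulAut.mul_apply,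
          pow_add, pow_one, MulAut.mul_apply]
        have h1 : F (α ((α ^ (2 * n)) y)) = F y⁻¹ := by rw [hFα _ _ ih, hFy, map_inv]
        rw [hFα _ _ h1, map_inv α, map_inv, hFy, inv_inv]
    obtain ⟨n, hn⟩ := hodd
    have h1 : F ((α ^ orderOf α) y) = (F y)⁻¹ := by
      rw [hn, Nat.add_comm, pow_add, pow_one, MulAut.mul_apply, hFα _ _ (hiter n), hFy]
    rw [pow_orderOf_eq_one, MulAut.one_apply, eq_inv_iff_mul_eq_one, ← pow_two, ← map_pow, hF,
      QuotientGroup.mk'_apply, QuotientGroup.eq_one_iff] at h1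
    refine hyL (Coprime.mem_of_pow_mem ?_ h1)
    rw [orderOf_eq_prime (hexp y hy) fun h => hyL (h ▸ one_mem L)]
    exact (Nat.coprime_primes hp.out Nat.prime_two).2 (by omega)
  · exact absurd (Int.natCast_dvd_natCast.1 h) hpi

end TypeLevel

section InGroup

variable {G : Type*} [Group G] [Finite G]

/-- A nonabelian `R = [R, A]` of rank two is `Ω₁(R)` times a cyclic group centralizing it. -/
theorem blackburn (hp2 : p ≠ 2) {R A : Subgroup G} (hR : IsPGroup p R)
    (hR1 : R ≠ ⊥) (hr : Cfsg.PRankLE p 2 R) (hA : A ≤ Subgroup.normalizer (R : Set G))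
    (hcop : (Nat.card A).Coprime p) (hAodd : Odd (Nat.card A)) (hRA : ⁅R, A⁆ = R) :
    3 < p ∧ (¬ IsMulCommutative R →
      Nat.card (omegaOne p R) = p ^ 3 ∧
      omegaOne p R ⊔ Subgroup.centralizer (omegaOne p R : Set R) = ⊤) := by
  set φ : A →* MulAut R := R.normalizerMonoidHom.comp (Subgroup.inclusion hA) with hφ
  have hp3 : 3 < p := by
    by_contra hle
    have hp3' : p = 3 := by
      have := hp.out.two_le
      omega
    have hodd' : Odd (Nat.card φ.range) := hAodd.of_dvd_nat (Subgroup.card_range_dvd φ)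
    obtain ⟨-, hq⟩ := commutator_isPGroup hp2 hR hr hodd' φ.range.subtype
      φ.range.subtype_injective
    have h1 : Nat.card φ.range = 1 := by
      by_contra hne
      obtain ⟨q, hq', hqd⟩ := Nat.exists_prime_and_dvd hne
      have hqp : q ≠ p := fun h => hp.out.not_dvd_one
        (hcop ▸ Nat.dvd_gcd (h ▸ hqd.trans (Subgroup.card_range_dvd φ)) dvd_rfl)
      have hqodd : Odd q := hodd'.of_dvd_nat hqd
      have hq2 : q = 2 := by
        subst hp3'
        rcases hq q hq' hqp hqd with h | h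
        · exact (Nat.prime_dvd_prime_iff_eq hq' Nat.prime_two).1 h
        · exact (Nat.prime_dvd_prime_iff_eq hq' Nat.prime_two).1
            (hq'.dvd_of_dvd_pow (n := 2) (by simpa using h))
      subst hq2
      exact absurd hqodd (by decide)
    have hC : A ≤ Subgroup.centralizer (R : Set G) := by
      intro a ha r hr
      have h2 : φ ⟨a, ha⟩ ∈ φ.range := ⟨_, rfl⟩
      rw [(Subgroup.card_eq_one.1 h1), Subgroup.mem_bot] at h2
      have h3 := congrArg (fun b : MulAut R => (b ⟨r, hr⟩ : G)) h2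
      exact (mul_inv_eq_iff_eq_mul.1 h3).symm
    rw [← Subgroup.commutator_eq_bot_iff_le_centralizer, Subgroup.commutator_comm, hRA] at hC
    exact hR1 hC
  refine ⟨hp3, fun hna => ?_⟩
  have hcopR := coprime_card_of_isPGroup hR hcop
  have hΩ : Nat.card (omegaOne p R) = p ^ 3 := by
    have h1 : Nat.card (omegaOne p R) ≤ p ^ 3 := (card_le_cube (fun x => Subtype.ext
      (omega_exp hp3 hR hr x.2)) fun B hB hBe => by
        haveI := hB
        rw [← Subgroup.card_map_of_injective (omegaOne p R).subtype_injective]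
        refine hr _ inferInstance ?_
        rintro _ ⟨x, hx, rfl⟩
        rw [← map_pow, hBe x hx, map_one]).1
    obtain ⟨k, hk⟩ := PGroup.exists_subgroup_card_eq_pow hR (omegaOne p R)
    rw [hk, Nat.pow_le_pow_iff_right hp.out.one_lt] at h1
    by_cases hk3 : k = 3
    · rw [hk, hk3]
    exfalso
    have hm := PGroup.isMetacyclic_of_smallExponent hp3 hR (PGroup.smallExponent_of_card_omega
      (G := R) (hk.trans_le (Nat.pow_le_pow_right hp.out.pos (by omega))))
    exact hna (hRA ▸ (metacyclic_coprime hp2 hR hm hA hcop).1)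
  refine ⟨hΩ, ?_⟩
  by_contra hne
  obtain ⟨D, y, hΦ, hy, hα⟩ := exists_fixed_section hp3 hR hr hΩ hne
  have hcopα : ∀ a : A, Odd (orderOf (φ a)) ∧ (orderOf (φ a)).Coprime p := fun a => by
    have hd : orderOf (φ a) ∣ Nat.card A := (orderOf_map_dvd φ a).trans (orderOf_dvd_natCard a)
    exact ⟨hAodd.of_dvd_nat hd, hcop.coprime_dvd_left hd⟩
  have hDn : D.Normal := Subgroup.Normal.of_commutator_le (G := R) (H := D)
    ((PGroup.commutator_le_frattini hR).trans hΦ)
  have hAD : A ≤ Subgroup.normalizer ((D.map R.subtype : Subgroup G) : Set G) := fun a ha =>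
    Coprime.mem_normalizer_of_forall fun x hx => by
      obtain ⟨x, hx', rfl⟩ := hx
      exact ⟨φ ⟨a, ha⟩ x, (hα _ (hcopα _).1 (hcopα _).2).1 x hx', rfl⟩
  obtain ⟨c, hc, hcy⟩ := Coprime.exists_mem_centralizer_of_coset hA hcopR
    (Or.inr (Coprime.isSolvable_of_isPGroup hR)) (Subgroup.map_subtype_le D) hAD y.2
    (fun a ha => ⟨φ ⟨a, ha⟩ y * y⁻¹, (hα _ (hcopα _).1 (hcopα _).2).2, rfl⟩)
  have h1 : c ∈ D.map R.subtype := Subgroup.map_mono hΦ
    (mem_frattini_of_fixed hR hA hcop hc.1 hc.2 (Subgroup.mem_sup_left (by rw [hRA]; exact hc.1)))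
  have h2 := mul_mem (inv_mem hcy) h1
  rw [mul_inv_rev, inv_inv, inv_mul_cancel_right] at h2
  obtain ⟨y', hy', he⟩ := h2
  exact hy ((Subtype.ext he : y' = y) ▸ hy')

end InGroup

end Cfsg.Agent.RankTwo
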