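/-
Odd order solvable groups of `p`-rank at most two (Bender-Glauberman 4.18).

* `exists_structure`
-/
import Cfsg.Agent.Lib.RankTwo.Good
import Cfsg.Agent.Lib.OddOrder.SigmaCore
import Cfsg.Agent.Lib.Solvable.Fitting
import Cfsg.Agent.Lib.HallHigman.PSolvable
import Cfsg.Agent.Lib.PSeries.LengthOne

set_option autoImplicit false

namespace Cfsg.Agent.RankTwo

open scoped commutatorElement

variable {p : ℕ} [hp : Fact p.Prime]

/-- A normal `p'`-subgroup of `p`-power index is a normal `p`-complement. -/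
theorem hasNormalPComplement_of {G : Type*} [Group G] [Finite G] (N : Subgroup G) [N.Normal]
    (hN : (Nat.card N).Coprime p) (hi : ∃ k, N.index = p ^ k) :
    Cfsg.HasNormalPComplement p G := by
  obtain ⟨P⟩ := (inferInstance : Nonempty (Sylow p G))
  obtain ⟨k, hk⟩ := hi
  refine ⟨P, N, inferInstance, ?_⟩
  have hP : Nat.card (P : Subgroup G) = p ^ k := by
    have hnd : ¬ p ∣ Nat.card N := hp.out.coprime_iff_not_dvd.1 hN.symm
    rw [P.card_eq_multiplicity, ← Subgroup.card_mul_index N, hk,
      Nat.factorization_mul Nat.card_pos.ne' (pow_ne_zero k hp.out.ne_zero), Finsupp.add_apply,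
      hp.out.factorization_pow, Finsupp.single_eq_same, Nat.factorization_eq_zero_of_not_dvd hnd,
      zero_add]
  refine Subgroup.isComplement'_of_coprime ?_ ?_
  · rw [hP, ← hk, Subgroup.card_mul_index]
  · rw [hP]
    exact Nat.Coprime.pow_right k hN

/-- Bender-Glauberman 4.18 and 5.6, in terms of `O_p(G / O_{p'}(G))`. -/
theorem exists_structure_of_good {G : Type*} [Group G] [Finite G] [Group.IsSolvable G]
    (hodd : Odd (Nat.card G)) (hp2 : p ≠ 2)
    (hgood : Good p ↥(Cfsg.pCore p (G ⧸ Cfsg.pPrimeCore p G))) :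
    (∀ q : ℕ, q.Prime → q ∣ (Cfsg.pPrimeCore p G).index → q = p ∨ q ∣ p - 1 ∨ q ∣ p + 1) ∧
      commutator G ≤ Cfsg.pPrimePCore p G ∧ ((Cfsg.pPrimePCore p G).index).Coprime p ∧
      Cfsg.HasNormalPComplement p ↥(commutator G) ∧
      (∀ L : Subgroup ↥(commutator G), (Nat.card L).Coprime p →
        L ≤ Cfsg.pPrimeCore p ↥(commutator G)) := by
  set O := Cfsg.pPrimeCore p G with hO
  set f := QuotientGroup.mk' O with hf
  set R := Cfsg.pCore p (G ⧸ O) with hR
  have hRp : IsPGroup p R := Cores.isPGroup_pCore p _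
  have hodd' : Odd (Nat.card (G ⧸ O)) := hodd.of_dvd_nat (Subgroup.card_quotient_dvd_card _)
  have hC : Subgroup.centralizer (R : Set (G ⧸ O)) ≤ R :=
    Solvable.centralizer_pCore_le_of_isSolvable (Cores.pPrimeCore_quotient_self p)
  set C := Subgroup.centralizer (R : Set (G ⧸ O)) with hCdef
  have hCp : IsPGroup p C := hRp.to_le hC
  set φ : (G ⧸ O) →* MulAut R := MulAut.conjNormal with hφ
  have hker : φ.ker ≤ C := fun x hx r hr => by
    have h := congrArg (fun a : MulAut R => (a ⟨r, hr⟩ : G ⧸ O)) (MonoidHom.mem_ker.1 hx)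
    simp only [hφ, MulAut.conjNormal_apply, MulAut.one_apply] at h
    exact (mul_inv_eq_iff_eq_mul.1 h).symm
  have hkp : IsPGroup p φ.ker := hCp.to_le hker
  have hrange := aut_structure hp2 hRp hgood (A := φ.range)
    (hodd'.of_dvd_nat (Subgroup.card_range_dvd φ)) φ.range.subtype φ.range.subtype_injective
  -- the derived group of the quotient
  have hder : commutator (G ⧸ O) ≤ R := by
    refine Cores.le_pCore inferInstance fun x => ?_
    have h1 : φ.rangeRestrict (x : G ⧸ O) ∈ commutator φ.range := by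
      have h3 : φ.rangeRestrict (x : G ⧸ O) ∈ (commutator (G ⧸ O)).map φ.rangeRestrict :=
        Subgroup.mem_map_of_mem _ x.2
      have h4 : (commutator (G ⧸ O)).map φ.rangeRestrict ≤ commutator φ.range := by
        rw [commutator_def, commutator_def, Subgroup.map_commutator]
        exact Subgroup.commutator_mono le_top le_top
      exact h4 h3
    obtain ⟨k, hk⟩ := hrange.1 ⟨_, h1⟩
    have h2 : (x : G ⧸ O) ^ p ^ k ∈ φ.ker := by
      have h4 := congrArg Subtype.val (congrArg Subtype.val hk)
      rw [MonoidHom.mem_ker, map_pow]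
      simpa using h4
    obtain ⟨j, hj⟩ := hkp ⟨_, h2⟩
    refine ⟨k + j, Subtype.ext ?_⟩
    have h5 := congrArg Subtype.val hj
    rw [SubgroupClass.coe_pow] at h5
    rw [SubgroupClass.coe_pow, pow_add, pow_mul]
    exact h5
  have hGder : commutator G ≤ Cfsg.pPrimePCore p G := by
    rw [Cfsg.pPrimePCore, ← Subgroup.map_le_iff_le_comap, commutator_def, Subgroup.map_commutator]
    exact (Subgroup.commutator_mono le_top le_top).trans hder
  -- `Ḡ ⧸ R` has order prime to `p`
  have hindex : R.index.Coprime p := by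
    rw [Nat.coprime_comm, hp.out.coprime_iff_not_dvd, Subgroup.index_eq_card]
    intro hd
    obtain ⟨x, hx⟩ := exists_prime_orderOf_dvd_card' (G := (G ⧸ O) ⧸ R) p hd
    have hab := Subgroup.Normal.quotient_commutative_iff_commutator_le.2 hder
    have hn : (Subgroup.zpowers x).Normal := ⟨fun y hy g => by
      rw [hab.is_comm.comm g y, mul_inv_cancel_right]
      exact hy⟩
    have hle := Cores.le_pCore hn (IsPGroup.of_card (n := 1) (by rw [Nat.card_zpowers, hx, pow_one]) :
      IsPGroup p (Subgroup.zpowers x))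
    have hx1 : x = 1 := Subgroup.mem_bot.1
      ((Cores.pCore_quotient_self p (G ⧸ O)).le (hle (Subgroup.mem_zpowers x)))
    rw [hx1, orderOf_one] at hx
    exact hp.out.ne_one hx.symm
  refine ⟨fun q hq hd => ?_, hGder, ?_, ?_, ?_⟩
  · by_cases hqp : q = p
    · exact Or.inl hqp
    refine Or.inr (hrange.2 q hq hqp ?_)
    rw [← Subgroup.index_ker]
    rw [Subgroup.index_eq_card] at hd
    rw [← Subgroup.card_mul_index φ.ker] at hd
    refine Nat.Coprime.dvd_of_dvd_mul_left ?_ hd
    obtain ⟨k, hk⟩ := IsPGroup.iff_card.1 hkp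
    rw [hk]
    exact Nat.Coprime.pow_right k ((Nat.coprime_primes hq hp.out).2 hqp)
  · rw [Cfsg.pPrimePCore, Subgroup.index_comap_of_surjective _ (QuotientGroup.mk'_surjective _)]
    exact hindex
  · set g := f.comp (commutator G).subtype with hg
    refine hasNormalPComplement_of g.ker ?_ ?_
    · have hle : g.ker.map (commutator G).subtype ≤ O := by
        rintro _ ⟨y, hy, rfl⟩
        exact (QuotientGroup.eq_one_iff _).1 hy
      rw [← Cores.card_map_subtype]
      exact (Cores.coprime_card_pPrimeCore (G := G) p).coprime_dvd_left (Subgroup.card_dvd_of_le hle)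
    · rw [Subgroup.index_ker]
      refine IsPGroup.iff_card.1 (hRp.to_le ?_)
      rintro _ ⟨y, rfl⟩
      exact hGder y.2
  · intro L hL
    set g := f.comp (commutator G).subtype with hg
    have h1 : L ≤ g.ker := by
      intro y hy
      rw [MonoidHom.mem_ker]
      obtain ⟨k, hk⟩ := IsPGroup.iff_orderOf.1 hRp ⟨g y, hGder y.2⟩
      rw [← Subgroup.orderOf_coe] at hk
      have h2 : orderOf (g y) ∣ Nat.card L := (orderOf_map_dvd g y).trans
        (Subgroup.orderOf_dvd_natCard L hy)
      rw [hk] at h2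
      have h3 : p ^ k = 1 := Nat.eq_one_of_dvd_coprimes (Nat.Coprime.pow_left k hL.symm) dvd_rfl h2
      rw [← orderOf_eq_one_iff, hk, h3]
    refine h1.trans (Cores.le_pPrimeCore inferInstance ?_)
    have hle : g.ker.map (commutator G).subtype ≤ O := by
      rintro _ ⟨y, hy, rfl⟩
      exact (QuotientGroup.eq_one_iff _).1 hy
    rw [← Cores.card_map_subtype]
    exact (Cores.coprime_card_pPrimeCore (G := G) p).coprime_dvd_left (Subgroup.card_dvd_of_le hle)

/-- Bender-Glauberman 4.18. -/
theorem exists_structure {G : Type*} [Group G] [Finite G] [Group.IsSolvable G]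
    (hodd : Odd (Nat.card G)) (hp2 : p ≠ 2) (hr : Cfsg.PRankLE p 2 G) :
    (∀ q : ℕ, q.Prime → q ∣ (Cfsg.pPrimeCore p G).index → q = p ∨ q ∣ p - 1 ∨ q ∣ p + 1) ∧
      commutator G ≤ Cfsg.pPrimePCore p G ∧ ((Cfsg.pPrimePCore p G).index).Coprime p ∧
      Cfsg.HasNormalPComplement p ↥(commutator G) ∧
      (∀ L : Subgroup ↥(commutator G), (Nat.card L).Coprime p →
        L ≤ Cfsg.pPrimeCore p ↥(commutator G)) :=
  exists_structure_of_good hodd hp2 (Or.inl
    (OddSigma.prankLE_of_injective _ (Subgroup.subtype_injective _)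
      (OddSigma.prankLE_quotient _ (Cores.not_dvd_card_pPrimeCore (p := p)) hr)))

/-- A narrow Sylow `p`-subgroup gives `Good` at `O_p(G / O_{p'}(G))`. -/
theorem good_pCore_quotient {G : Type*} [Group G] [Finite G] (S : Sylow p G)
    (hS : Cfsg.IsNarrow p ↥(S : Subgroup G))
    (hpl : ¬ Cfsg.PRankLE p 2 ↥(S : Subgroup G) → Cfsg.PLengthLE p 1 G) :
    Good p ↥(Cfsg.pCore p (G ⧸ Cfsg.pPrimeCore p G)) := by
  set O := Cfsg.pPrimeCore p G with hO
  set f := QuotientGroup.mk' O with hf
  set g := (f.comp (S : Subgroup G).subtype).rangeRestrict with hg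
  have hinj : Function.Injective g := by
    refine MonoidHom.rangeRestrict_injective_iff.2 ((MonoidHom.ker_eq_bot_iff _).1 (eq_bot_iff.2 ?_))
    intro x hx
    rw [Subgroup.mem_bot]
    have hxO : (x : G) ∈ O := (QuotientGroup.eq_one_iff _).1 hx
    obtain ⟨k, hk⟩ := IsPGroup.iff_orderOf.1 S.isPGroup' x
    have h1 : orderOf (x : G) ∣ Nat.card O := Subgroup.orderOf_dvd_natCard _ hxO
    rw [Subgroup.orderOf_coe, hk] at h1
    rcases Nat.eq_zero_or_pos k with h | h
    · exact orderOf_eq_one_iff.1 (by rw [hk, h, pow_zero])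
    · exact absurd ((dvd_pow_self p h.ne').trans h1) (Cores.not_dvd_card_pPrimeCore)
  have hbij : Function.Bijective g := ⟨hinj, MonoidHom.rangeRestrict_surjective _⟩
  have hrange : (f.comp (S : Subgroup G).subtype).range = (S : Subgroup G).map f := by
    rw [MonoidHom.range_comp, Subgroup.range_subtype]
  have hle : Cfsg.pCore p (G ⧸ O) ≤ (f.comp (S : Subgroup G).subtype).range :=
    hrange ▸ Cores.pCore_le_sylow (S.mapSurjective (QuotientGroup.mk'_surjective O))
  by_cases hr : Cfsg.PRankLE p 2 ↥(S : Subgroup G)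
  · refine Or.inl fun A hA hAe => ?_
    haveI := hA
    set e := (MulEquiv.ofBijective g hbij).symm.toMonoidHom.comp (Subgroup.inclusion hle)
    have he : Function.Injective e :=
      ((MulEquiv.ofBijective g hbij).symm.injective).comp (Subgroup.inclusion_injective hle)
    rw [← Subgroup.card_map_of_injective he]
    refine hr _ inferInstance ?_
    rintro _ ⟨a, ha, rfl⟩
    rw [← map_pow, hAe a ha, map_one]
  · -- with `p`-length one, `O_p` of the quotient is the whole Sylow subgroup
    have hge : (f.comp (S : Subgroup G).subtype).range ≤ Cfsg.pCore p (G ⧸ O) := by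
      rintro _ ⟨x, rfl⟩
      exact PSeries.le_pPrimePCore_of_pLengthLE_one (hpl hr) S.isPGroup' x.2
    exact good_congr ((MulEquiv.ofBijective g hbij).trans (MulEquiv.subgroupCongr (le_antisymm hge hle)))
      (good_of_isNarrow S.isPGroup' hS)

end Cfsg.Agent.RankTwo
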